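/-
helper56: equivariant uniformisers of a finite unramified domain over a discrete valuation ring, and
the equivariant factorisation of units over a completion.
-/
import Mathlib

set_option autoImplicit false
set_option maxHeartbeats 400000
universe u

open scoped TensorProduct

noncomputable section

namespace Groth.Agent.MultTori56

variable {A : Type u} [CommRing A] [IsDomain A] [IsDiscreteValuationRing A]
  {D : Type u} [CommRing D] [IsDomain D] [Algebra A D] [Module.Finite A D]
  [Algebra.FormallyUnramified A D] [FaithfulSMul A D]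
  {G : Type u} [Group G] (act : G →* (D ≃ₐ[A] D)) {p : A}

omit [IsDomain D] [Algebra.FormallyUnramified A D] [FaithfulSMul A D] in
theorem map_mem_maximal (hp : IsLocalRing.maximalIdeal A = Ideal.span {p}) (w : MaximalSpectrum D) :
    algebraMap A D p ∈ w.asIdeal := by
  haveI := w.isMaximal
  have h : (w.asIdeal.comap (algebraMap A D)).IsMaximal :=
    Ideal.isMaximal_comap_of_isIntegral_of_isMaximal w.asIdeal
  rw [← Ideal.mem_comap, IsLocalRing.eq_maximalIdeal h, hp]
  exact Ideal.mem_span_singleton_self p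

omit [IsDomain D] [Algebra.FormallyUnramified A D] [FaithfulSMul A D] in
theorem isUnit_one_add_mul (hp : IsLocalRing.maximalIdeal A = Ideal.span {p}) (c : D) :
    IsUnit (1 + algebraMap A D p * c) := by
  by_contra h
  obtain ⟨I, hI, hc⟩ := exists_max_ideal_of_mem_nonunits h
  exact hI.ne_top ((Ideal.eq_top_iff_one _).2 (by
    have := I.sub_mem hc (I.mul_mem_right c (map_mem_maximal hp ⟨I, hI⟩))
    simpa using this))

omit [IsDomain D] [Algebra.FormallyUnramified A D] [FaithfulSMul A D] in
theorem finite_maximalSpectrum (hp : IsLocalRing.maximalIdeal A = Ideal.span {p}) :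
    Finite (MaximalSpectrum D) := by
  let Q := D ⧸ (IsLocalRing.maximalIdeal A).map (algebraMap A D)
  letI : Field (A ⧸ IsLocalRing.maximalIdeal A) := Ideal.Quotient.field _
  haveI : IsArtinianRing Q :=
    IsArtinianRing.of_finite (A ⧸ IsLocalRing.maximalIdeal A) Q
  have hle : ∀ w : MaximalSpectrum D,
      (IsLocalRing.maximalIdeal A).map (algebraMap A D) ≤ w.asIdeal := fun w => by
    rw [hp, Ideal.map_span, Set.image_singleton, Ideal.span_singleton_le_iff_mem]
    exact map_mem_maximal hp w
  refine Finite.of_injective (β := MaximalSpectrum Q) (fun w => ⟨w.asIdeal.map (Ideal.Quotient.mk _),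
    haveI := w.isMaximal
    Or.resolve_left (Ideal.map_eq_top_or_isMaximal_of_surjective _ Ideal.Quotient.mk_surjective w.isMaximal)
      fun h => w.isMaximal.ne_top (by
        have := congrArg (Ideal.comap (Ideal.Quotient.mk _)) h
        simpa [Ideal.comap_map_of_surjective _ Ideal.Quotient.mk_surjective, ← RingHom.ker_eq_comap_bot,
          Ideal.mk_ker, hle w] using this)⟩) fun w w' h => MaximalSpectrum.ext ?_
  have := congrArg (fun I : MaximalSpectrum Q => I.asIdeal.comap (Ideal.Quotient.mk _)) h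
  simpa [Ideal.comap_map_of_surjective _ Ideal.Quotient.mk_surjective, ← RingHom.ker_eq_comap_bot,
    Ideal.mk_ker, hle w, hle w'] using this

omit [IsDomain D] [FaithfulSMul A D] in
theorem mem_span_iff_forall_mem (hp : IsLocalRing.maximalIdeal A = Ideal.span {p}) (x : D) :
    x ∈ Ideal.span {algebraMap A D p} ↔ ∀ w : MaximalSpectrum D, x ∈ w.asIdeal := by
  refine ⟨fun h w => (Ideal.span_singleton_le_iff_mem _).2 (map_mem_maximal hp w) h, fun h => ?_⟩
  let J := Ideal.span {algebraMap A D p}
  let k := A ⧸ IsLocalRing.maximalIdeal A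
  have hJ : J = (IsLocalRing.maximalIdeal A).map (algebraMap A D) := by
    rw [hp, Ideal.map_span, Set.image_singleton]
  let Q := D ⧸ (IsLocalRing.maximalIdeal A).map (algebraMap A D)
  letI : Field k := Ideal.Quotient.field _
  haveI : IsArtinianRing Q := IsArtinianRing.of_finite k Q
  haveI : Algebra.FormallyUnramified A Q :=
    Algebra.FormallyUnramified.of_surjective (Ideal.Quotient.mkₐ A _) Ideal.Quotient.mk_surjective
  haveI : Algebra.FormallyUnramified k Q := Algebra.FormallyUnramified.of_restrictScalars A k Q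
  haveI : IsReduced Q := Algebra.FormallyUnramified.isReduced_of_field k Q
  change x ∈ J
  rw [hJ, ← Ideal.Quotient.eq_zero_iff_mem]
  refine IsNilpotent.eq_zero (mem_nilradical.1 ?_)
  rw [nilradical_eq_sInf]
  refine Submodule.mem_sInf.2 fun I hI => ?_
  change Ideal Q at I
  haveI : Ideal.IsPrime I := hI
  haveI : I.IsMaximal := IsArtinianRing.isMaximal_of_isPrime I
  haveI := Ideal.comap_isMaximal_of_surjective
    (Ideal.Quotient.mk ((IsLocalRing.maximalIdeal A).map (algebraMap A D))) Ideal.Quotient.mk_surjective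
    (K := I)
  exact h ⟨I.comap (Ideal.Quotient.mk _), inferInstance⟩

/-- Idempotents modulo `p ^ 2` cutting out one maximal ideal. -/
theorem exists_idem (hp : IsLocalRing.maximalIdeal A = Ideal.span {p}) (w : MaximalSpectrum D) :
    ∃ e : D, IsIdempotentElem (Ideal.Quotient.mk (Ideal.span {algebraMap A D p ^ 2}) e) ∧
      1 - e ∈ w.asIdeal ∧ ∀ w' : MaximalSpectrum D, w' ≠ w → e ∈ w'.asIdeal := by
  haveI := finite_maximalSpectrum (D := D) hp
  classical
  obtain ⟨c, hc⟩ := Ideal.exists_forall_sub_mem_ideal (I := fun v : MaximalSpectrum D => v.asIdeal)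
    (fun v v' hne => Ideal.isCoprime_iff_sup_eq.2 (v.isMaximal.coprime_of_ne v'.isMaximal
      fun h => hne (MaximalSpectrum.ext h))) (fun v => if v = w then (1 : D) else 0)
  have hc1 : c - 1 ∈ w.asIdeal := by simpa using hc w
  have hc0 : ∀ v, v ≠ w → c ∈ v.asIdeal := fun v hv => by simpa [hv] using hc v
  have hidem : c ^ 2 - c ∈ Ideal.span {algebraMap A D p} := (mem_span_iff_forall_mem hp _).2 fun v => by
    rw [show c ^ 2 - c = c * (c - 1) by ring]
    by_cases hv : v = w
    · exact hv ▸ w.asIdeal.mul_mem_left _ hc1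
    · exact v.asIdeal.mul_mem_right _ (hc0 v hv)
  refine ⟨3 * c ^ 2 - 2 * c ^ 3, ?_, ?_, fun v hv => ?_⟩
  · rw [IsIdempotentElem, ← map_mul, Ideal.Quotient.eq,
      show (3 * c ^ 2 - 2 * c ^ 3) * (3 * c ^ 2 - 2 * c ^ 3) - (3 * c ^ 2 - 2 * c ^ 3) =
        (4 * c ^ 2 - 4 * c - 3) * (c ^ 2 - c) ^ 2 by ring]
    obtain ⟨a, ha⟩ := Ideal.mem_span_singleton.1 hidem
    exact Ideal.mul_mem_left _ _ (Ideal.mem_span_singleton.2 ⟨a ^ 2, by rw [ha]; ring⟩)
  · rw [show 1 - (3 * c ^ 2 - 2 * c ^ 3) = (2 * c ^ 2 - c - 1) * (c - 1) by ring]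
    exact w.asIdeal.mul_mem_left _ hc1
  · rw [show 3 * c ^ 2 - 2 * c ^ 3 = (3 * c - 2 * c ^ 2) * c by ring]
    exact v.asIdeal.mul_mem_left _ (hc0 v hv)

/-- The image of a maximal ideal under an element of the group. -/
def mv (g : G) (w : MaximalSpectrum D) : MaximalSpectrum D :=
  ⟨w.asIdeal.comap (act g).symm.toRingEquiv.toRingHom,
    haveI := w.isMaximal
    Ideal.comap_isMaximal_of_surjective _ (act g).symm.surjective⟩

omit [IsDomain A] [IsDiscreteValuationRing A] [IsDomain D] [Module.Finite A D]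
  [Algebra.FormallyUnramified A D] [FaithfulSMul A D] in
theorem mem_mv {g : G} {w : MaximalSpectrum D} {x : D} :
    act g x ∈ (mv act g w).asIdeal ↔ x ∈ w.asIdeal := by
  show (act g).symm (act g x) ∈ w.asIdeal ↔ _
  rw [AlgEquiv.symm_apply_apply]

omit [IsDomain A] [IsDiscreteValuationRing A] [IsDomain D] [Module.Finite A D]
  [Algebra.FormallyUnramified A D] [FaithfulSMul A D] in
theorem mv_mv (g h : G) (w : MaximalSpectrum D) : mv act g (mv act h w) = mv act (g * h) w := by
  refine MaximalSpectrum.ext (Ideal.ext fun x => ?_)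
  show (act h).symm ((act g).symm x) ∈ w.asIdeal ↔ (act (g * h)).symm x ∈ w.asIdeal
  rw [map_mul]
  rfl

omit [IsDomain A] [IsDiscreteValuationRing A] [IsDomain D] [Module.Finite A D]
  [Algebra.FormallyUnramified A D] [FaithfulSMul A D] in
theorem mv_one (w : MaximalSpectrum D) : mv act 1 w = w := by
  refine MaximalSpectrum.ext (Ideal.ext fun x => ?_)
  show (act 1).symm x ∈ w.asIdeal ↔ _
  rw [map_one]
  rfl

/-- An element with sum of conjugates one. -/
theorem exists_sum_eq_one [Fintype G] (hp : IsLocalRing.maximalIdeal A = Ideal.span {p})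
    (hinj : Function.Injective act)
    (hfix : ∀ x : D, (∀ g, act g x = x) → x ∈ Set.range (algebraMap A D)) :
    ∃ θ : D, ∑ g, act g θ = 1 := by
  classical
  have hT : ∀ x : D, ∃ a : A, algebraMap A D a = ∑ g, act g x := fun x => hfix _ fun h => by
    rw [map_sum]
    exact Fintype.sum_equiv (Equiv.mulLeft h) _ _ fun g => by simp [map_mul, AlgEquiv.mul_apply]
  by_cases hu : ∃ x a, algebraMap A D a = ∑ g, act g x ∧ IsUnit a
  · obtain ⟨x, a, ha, ⟨u, rfl⟩⟩ := hu
    refine ⟨algebraMap A D ↑u⁻¹ * x, ?_⟩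
    simp only [map_mul, AlgEquiv.commutes, ← Finset.mul_sum, ← ha]
    rw [← map_mul, Units.inv_mul, map_one]
  exfalso
  push Not at hu
  obtain ⟨I, hI⟩ := Ideal.exists_maximal D
  haveI := hI
  letI : Field (D ⧸ I) := Ideal.Quotient.field I
  let φ : G → D →* (D ⧸ I) := fun g => ((Ideal.Quotient.mk I).comp (act g).toRingEquiv.toRingHom).toMonoidHom
  have hφ : Function.Injective φ := by
    intro g h hgh
    let ρ : D →ₐ[A] D := ((act h).symm.toAlgHom).comp (act g).toAlgHom
    let J := I.comap (act h).toRingEquiv.toRingHom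
    have hρ : ∀ x, ρ x - x ∈ J := fun x => by
      have := Ideal.Quotient.eq.1 (DFunLike.congr_fun hgh x)
      show act h (ρ x - x) ∈ I
      rw [map_sub]
      show act h ((act h).symm (act g x)) - act h x ∈ I
      rw [AlgEquiv.apply_symm_apply]
      exact this
    have hJ : J ≠ ⊤ := Ideal.comap_ne_top _ hI.ne_top
    haveI : IsNoetherianRing D := IsNoetherianRing.of_finite A D
    have hpow : ∀ n : ℕ, ∀ x, ρ x - x ∈ J ^ n := by
      intro n x
      rcases Nat.eq_zero_or_pos n with rfl | hn
      · simp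
      rw [← Ideal.Quotient.eq]
      refine DFunLike.congr_fun (Algebra.FormallyUnramified.ext (R := A)
        (J.map (Ideal.Quotient.mk (J ^ n))) ⟨n, ?_⟩
        (g₁ := (Ideal.Quotient.mkₐ A (J ^ n)).comp ρ) (g₂ := Ideal.Quotient.mkₐ A (J ^ n))
        fun y => ?_) x
      · rw [← Ideal.map_pow, Ideal.map_quotient_self]
        rfl
      · rw [Ideal.Quotient.eq]
        show Ideal.Quotient.mk (J ^ n) (ρ y) - Ideal.Quotient.mk (J ^ n) y ∈ _
        rw [← map_sub]
        exact Ideal.mem_map_of_mem _ (hρ y)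
    have : ∀ x, ρ x = x := fun x => sub_eq_zero.1 <| by
      have h1 := Submodule.mem_iInf _ |>.2 (fun n => hpow n x)
      rwa [Ideal.iInf_pow_eq_bot_of_isDomain J hJ, Submodule.mem_bot] at h1
    apply hinj
    refine AlgEquiv.ext fun x => ?_
    have := congrArg (act h) (this x)
    simpa [ρ] using this
  have hli := (linearIndependent_monoidHom D (D ⧸ I)).comp φ hφ
  rw [Fintype.linearIndependent_iff] at hli
  refine one_ne_zero (hli (fun _ => 1) (funext fun x => ?_) 1)
  obtain ⟨a, ha⟩ := hT x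
  have ha' : a ∈ IsLocalRing.maximalIdeal A := hu x a ha
  rw [hp, Ideal.mem_span_singleton] at ha'
  obtain ⟨b, rfl⟩ := ha'
  simp only [Function.comp_apply, one_smul, Finset.sum_apply, Pi.zero_apply]
  show ∑ g, Ideal.Quotient.mk I (act g x) = 0
  rw [← map_sum, ← ha, map_mul, Ideal.Quotient.eq_zero_iff_mem]
  exact I.mul_mem_right _ (map_mem_maximal hp ⟨I, hI⟩)

/-- Equivariant generators of the maximal ideals. -/
theorem exists_uniformizers [Fintype G] (hp : IsLocalRing.maximalIdeal A = Ideal.span {p})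
    (hinj : Function.Injective act)
    (hfix : ∀ x : D, (∀ g, act g x = x) → x ∈ Set.range (algebraMap A D)) :
    ∃ F : MaximalSpectrum D → D, (∀ g w, act g (F w) = F (mv act g w)) ∧
      (∀ w, Ideal.span {F w} = w.asIdeal) ∧ (∀ w, F w ∣ algebraMap A D p) := by
  classical
  obtain ⟨θ, hθ⟩ := exists_sum_eq_one act hp hinj hfix
  choose e he hew he' using fun w => exists_idem (D := D) hp w
  set P := algebraMap A D p
  let q := Ideal.span {P ^ 2}
  -- the idempotents are permuted by the group modulo `P ^ 2`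
  have hperm : ∀ g w, act g (e w) - e (mv act g w) ∈ q := by
    intro g w
    have hmem : act g (e w) - e (mv act g w) ∈ Ideal.span {P} := by
      refine (mem_span_iff_forall_mem hp _).2 fun v => ?_
      have hv : mv act g (mv act g⁻¹ v) = v := by rw [mv_mv, mul_inv_cancel, mv_one]
      by_cases h : v = mv act g w
      · subst h
        rw [show act g (e w) - e (mv act g w) =
          (1 - e (mv act g w)) - act g (1 - e w) by rw [map_sub, map_one]; ring]
        exact Ideal.sub_mem _ (hew _) ((mem_mv act).2 (hew w))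
      · refine Ideal.sub_mem _ ?_ (he' _ v h)
        rw [← hv]
        exact (mem_mv act).2 (he' w _ fun h' => h (by rw [← hv, h']))
    obtain ⟨y, hy⟩ := Ideal.mem_span_singleton'.1 hmem
    rw [← Ideal.Quotient.eq]
    have hstable : ∀ z ∈ q, act g z ∈ q := fun z hz => by
      obtain ⟨c, rfl⟩ := Ideal.mem_span_singleton'.1 hz
      rw [map_mul, map_pow, AlgEquiv.commutes]
      exact Ideal.mul_mem_left _ _ (Ideal.mem_span_singleton_self _)
    refine eq_of_isNilpotent_sub_of_isIdempotentElem ?_ (he _) ⟨2, ?_⟩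
    · have h1 := Ideal.Quotient.eq.1 ((map_mul (Ideal.Quotient.mk q) (e w) (e w)).trans (he w))
      rw [IsIdempotentElem, ← map_mul, ← map_mul, Ideal.Quotient.eq, ← map_sub]
      exact hstable _ h1
    · rw [← map_sub, ← hy, ← map_pow, Ideal.Quotient.eq_zero_iff_mem, mul_pow]
      exact Ideal.mul_mem_left _ _ (Ideal.mem_span_singleton_self _)
  let f : MaximalSpectrum D → D := fun w => P * e w + (1 - e w)
  let F : MaximalSpectrum D → D := fun w => ∑ g, act g (θ * f (mv act g⁻¹ w))
  have hF : ∀ w, F w - f w ∈ q := fun w => by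
    have : F w - f w = ∑ g, act g θ * (act g (f (mv act g⁻¹ w)) - f w) := by
      simp only [F, map_mul, mul_sub, Finset.sum_sub_distrib, ← Finset.sum_mul, hθ, one_mul]
    rw [this]
    refine Ideal.sum_mem _ fun g _ => Ideal.mul_mem_left _ _ ?_
    have h1 := hperm g (mv act g⁻¹ w)
    rw [mv_mv, mul_inv_cancel, mv_one] at h1
    rw [show act g (f (mv act g⁻¹ w)) - f w = (P - 1) * (act g (e (mv act g⁻¹ w)) - e w) by
      simp only [f, map_add, map_mul, map_sub, map_one, P, AlgEquiv.commutes]; ring]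
    exact Ideal.mul_mem_left _ _ h1
  have hdvd : ∀ w, F w ∣ P := fun w => by
    have h1 : (f w * ((1 - e w) * P + e w)) - P ∈ q := by
      rw [show f w * ((1 - e w) * P + e w) - P = (2 * P - P ^ 2 - 1) * (e w * e w - e w) by
        simp only [f]; ring]
      exact Ideal.mul_mem_left _ _ (Ideal.Quotient.eq.1 ((map_mul (Ideal.Quotient.mk q) _ _).trans (he w)))
    have h2 : F w * ((1 - e w) * P + e w) - P ∈ q := by
      have := Ideal.add_mem _ (Ideal.mul_mem_right ((1 - e w) * P + e w) _ (hF w)) h1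
      convert this using 1; ring
    obtain ⟨c, hc⟩ := Ideal.mem_span_singleton'.1 h2
    refine (isUnit_one_add_mul hp c).dvd_mul_right.1 ⟨(1 - e w) * P + e w, ?_⟩
    linear_combination hc
  refine ⟨F, fun g w => ?_, fun w => ?_, hdvd⟩
  · simp only [F, map_sum]
    refine Fintype.sum_equiv (Equiv.mulLeft g) _ _ fun h => ?_
    rw [Equiv.coe_mulLeft, map_mul act, AlgEquiv.mul_apply]
    congr 2
    rw [mv_mv, mul_inv_rev]
    congr 1
    group
  · have hPw : P ∈ w.asIdeal := map_mem_maximal hp w
    have hqle : ∀ J : Ideal D, P ∈ J → q ≤ J := fun J hJ =>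
      (Ideal.span_singleton_le_iff_mem J (x := P ^ 2)).2 (by rw [sq]; exact J.mul_mem_left P hJ)
    refine le_antisymm ((Ideal.span_singleton_le_iff_mem w.asIdeal (x := F w)).2 ?_) fun x hx => ?_
    · have h0 : f w ∈ w.asIdeal := Ideal.add_mem _ (w.asIdeal.mul_mem_right _ hPw) (hew w)
      simpa using Ideal.add_mem _ (hqle _ hPw (hF w)) h0
    · have hPF : P ∈ Ideal.span {F w} := Ideal.mem_span_singleton.2 (hdvd w)
      have h1 : 1 - e w ∈ Ideal.span {F w} := by
        have := Ideal.sub_mem _ (Ideal.sub_mem _ (Ideal.mem_span_singleton_self (F w))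
          (hqle _ hPF (hF w))) (Ideal.mul_mem_right (e w) _ hPF)
        simpa [f] using this
      have h2 : x * e w ∈ Ideal.span {F w} := (Ideal.span_singleton_le_iff_mem _ (x := P)).2 hPF
        ((mem_span_iff_forall_mem hp _).2 fun v => by
          by_cases hv : v = w
          · subst hv; exact v.asIdeal.mul_mem_right _ hx
          · exact v.asIdeal.mul_mem_left _ (he' w v hv))
      have := Ideal.add_mem _ h2 (Ideal.mul_mem_left _ x h1)
      convert this using 1; ring

omit [IsDomain D] in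
theorem prime_of_span {F : MaximalSpectrum D → D} (hspan : ∀ w, Ideal.span {F w} = w.asIdeal)
    (h0 : ∀ w, F w ≠ 0) (w : MaximalSpectrum D) : Prime (F w) := by
  rw [← Ideal.span_singleton_prime (h0 w), hspan w]
  exact w.isMaximal.isPrime

/-- Every nonzero element is a unit times a product of the uniformisers. -/
theorem exists_factor (A : Type u) [CommRing A] [IsDomain A] [IsDiscreteValuationRing A]
    {D : Type u} [CommRing D] [IsDomain D] [Algebra A D] [Module.Finite A D]
    [Fintype (MaximalSpectrum D)] {F : MaximalSpectrum D → D}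
    (hspan : ∀ w, Ideal.span {F w} = w.asIdeal) (h0 : ∀ w, F w ≠ 0) (z : D) (hz : z ≠ 0) :
    ∃ (u : Dˣ) (n : MaximalSpectrum D → ℕ), z = u * ∏ w, F w ^ n w := by
  classical
  haveI : IsNoetherianRing D := IsNoetherianRing.of_finite A D
  haveI : IsPrincipalIdealRing D := IsPrincipalIdealRing.of_prime_ne_bot fun P hP hne => by
    haveI := hP
    have hb : P.comap (algebraMap A D) ≠ ⊥ := fun h => hne (Ideal.eq_bot_of_comap_eq_bot h)
    haveI : (P.comap (algebraMap A D)).IsMaximal :=
      IsPrime.to_maximal_ideal (hpi := P.comap_isPrime _) hb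
    have hm : P.IsMaximal := Ideal.isMaximal_of_isIntegral_of_isMaximal_comap (R := A) P inferInstance
    exact ⟨⟨F ⟨P, hm⟩, (hspan ⟨P, hm⟩).symm⟩⟩
  induction z using WfDvdMonoid.induction_on_irreducible with
  | zero => exact absurd rfl hz
  | unit x hx => exact ⟨hx.unit, 0, by simp⟩
  | mul a i ha hi ih =>
    obtain ⟨u, n, rfl⟩ := ih ha
    have hm : (Ideal.span {i}).IsMaximal := PrincipalIdealRing.isMaximal_of_irreducible hi
    obtain ⟨v, hv⟩ : Associated (F ⟨_, hm⟩) i :=
      Ideal.span_singleton_eq_span_singleton.1 (hspan ⟨_, hm⟩)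
    refine ⟨v * u, n + Pi.single ⟨_, hm⟩ 1, ?_⟩
    have hs : ∏ w, F w ^ (Pi.single (⟨_, hm⟩ : MaximalSpectrum D) 1 : _ → ℕ) w = F ⟨_, hm⟩ := by
      rw [Finset.prod_eq_single ⟨_, hm⟩ (fun w _ hw => by simp [hw]) (fun h => absurd (Finset.mem_univ _) h)]
      simp
    simp only [Pi.add_apply, pow_add, Finset.prod_mul_distrib, hs, Units.val_mul]
    linear_combination (-(↑u * ∏ w, F w ^ n w)) * hv

theorem le_of_prod_dvd [Fintype (MaximalSpectrum D)] {F : MaximalSpectrum D → D}
    (hspan : ∀ w, Ideal.span {F w} = w.asIdeal) (h0 : ∀ w, F w ≠ 0)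
    {a b : MaximalSpectrum D → ℕ} (h : (∏ w, F w ^ a w) ∣ ∏ w, F w ^ b w) : a ≤ b := by
  classical
  intro w
  have h1 : F w ^ a w ∣ ∏ v, F v ^ b v :=
    (Finset.dvd_prod_of_mem (fun v => F v ^ a v) (Finset.mem_univ w)).trans h
  rw [← Finset.mul_prod_erase _ _ (Finset.mem_univ w)] at h1
  have hcop : IsCoprime (F w ^ a w) (∏ v ∈ Finset.univ.erase w, F v ^ b v) := by
    refine IsCoprime.prod_right fun v hv => IsCoprime.pow ?_
    rw [← Ideal.isCoprime_span_singleton_iff, hspan, hspan, Ideal.isCoprime_iff_sup_eq]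
    exact w.isMaximal.coprime_of_ne v.isMaximal fun h' =>
      (Finset.mem_erase.1 hv).1 (MaximalSpectrum.ext h').symm
  exact (pow_dvd_pow_iff (h0 w) (prime_of_span hspan h0 w).not_isUnit).1 (hcop.dvd_of_dvd_mul_right h1)

end Groth.Agent.MultTori56
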