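/-
helper56: units of the completion of a finite unramified domain over a discrete valuation ring:
equivariant factorisation into an integral unit and a product of uniformisers.
-/
import Mathlib
import Groth.Agent.MultTori56.Arith

set_option autoImplicit false
set_option maxHeartbeats 400000
universe u

open scoped TensorProduct

noncomputable section

namespace Groth.Agent.MultTori56

variable {A : Type u} [CommRing A] [IsDomain A] [IsDiscreteValuationRing A] {p : A}
  {D : Type u} [CommRing D] [IsDomain D] [Algebra A D] [Module.Finite A D] [FaithfulSMul A D]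
  {O Kh : Type u} [CommRing O] [Algebra A O] [IsLocalRing O] [CommRing Kh] [Algebra A Kh]

/-- The standing hypotheses on a completion. -/
structure IsCompletionData (p : A) (ι : O →ₐ[A] Kh) : Prop where
  inj : Function.Injective ι
  dense : ∀ (x : O) (N : ℕ), ∃ (a : A) (y : O), x = algebraMap A O a + algebraMap A O p ^ N * y
  pure : ∀ (a : A) (N : ℕ) (y : O), algebraMap A O a = algebraMap A O p ^ N * y → p ^ N ∣ a
  bdd : ∀ x : Kh, ∃ N : ℕ, x * algebraMap A Kh p ^ N ∈ Set.range ι
  nonunit : ¬ IsUnit (algebraMap A O p)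
  unit : IsUnit (algebraMap A Kh p)

variable (D) in
/-- The map of completed algebras. -/
def iota (ι : O →ₐ[A] Kh) : O ⊗[A] D →ₐ[A] Kh ⊗[A] D :=
  Algebra.TensorProduct.map ι (AlgHom.id A D)

variable (D O) in
/-- The algebra in its completion. -/
def incl : D →ₐ[A] O ⊗[A] D := Algebra.TensorProduct.includeRight

variable {ι : O →ₐ[A] Kh}

omit [IsLocalRing O] in
theorem iota_injective (h : IsCompletionData p ι) : Function.Injective (iota D ι) :=
  haveI : Module.Free A D := Module.free_of_finite_type_torsion_free'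
  Module.Flat.rTensor_preserves_injective_linearMap ι.toLinearMap h.inj

omit [IsDomain D] [FaithfulSMul A D] [IsLocalRing O] in
theorem exists_approx (h : IsCompletionData p ι) (z : O ⊗[A] D) (N : ℕ) :
    ∃ (d : D) (y : O ⊗[A] D), z = incl D O d + algebraMap A (O ⊗[A] D) p ^ N * y := by
  induction z using TensorProduct.induction_on with
  | zero => exact ⟨0, 0, by simp⟩
  | tmul x d =>
    obtain ⟨a, y, hy⟩ := h.dense x N
    refine ⟨a • d, y ⊗ₜ d, ?_⟩
    rw [incl, Algebra.TensorProduct.includeRight_apply, Algebra.TensorProduct.algebraMap_apply,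
      Algebra.TensorProduct.tmul_pow, one_pow, Algebra.TensorProduct.tmul_mul_tmul, one_mul,
      TensorProduct.tmul_smul, TensorProduct.smul_tmul', ← TensorProduct.add_tmul, hy,
      Algebra.smul_def, mul_one]
  | add z z' hz hz' =>
    obtain ⟨d, y, hy⟩ := hz
    obtain ⟨d', y', hy'⟩ := hz'
    exact ⟨d + d', y + y', by rw [hy, hy', map_add, mul_add]; abel⟩

omit [IsLocalRing O] in
theorem dvd_of_incl_eq (h : IsCompletionData p ι) (d : D) (N : ℕ) (y : O ⊗[A] D)
    (hy : incl D O d = algebraMap A (O ⊗[A] D) p ^ N * y) : algebraMap A D p ^ N ∣ d := by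
  haveI : Module.Free A D := Module.free_of_finite_type_torsion_free'
  let b := Module.Free.chooseBasis A D
  have hc : ∀ i, p ^ N ∣ b.repr d i := fun i => by
    refine h.pure _ N ((b.baseChange O).repr y i) ?_
    have := congrArg (fun t => (b.baseChange O).repr t i) hy
    simp only [incl, Algebra.TensorProduct.includeRight_apply,
      ← map_pow, ← Algebra.smul_def] at this
    rw [← algebraMap_smul O (p ^ N) y, map_smul] at this
    simpa [Module.Basis.baseChange_repr_tmul, Algebra.smul_def] using this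
  choose c hc using hc
  rw [← b.sum_repr d]
  refine Finset.dvd_sum fun i _ => ⟨c i • b i, ?_⟩
  rw [← map_pow, ← Algebra.smul_def, smul_smul, ← hc]

theorem isUnit_one_sub_mul (h : IsCompletionData p ι) (y : O ⊗[A] D) :
    IsUnit (1 - algebraMap A (O ⊗[A] D) p * y) := by
  by_contra hc
  obtain ⟨I, hI, hm⟩ := exists_max_ideal_of_mem_nonunits hc
  haveI := hI
  haveI : (I.comap (algebraMap O (O ⊗[A] D))).IsMaximal :=
    Ideal.isMaximal_comap_of_isIntegral_of_isMaximal I
  have hp' : algebraMap A (O ⊗[A] D) p ∈ I := by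
    rw [IsScalarTower.algebraMap_apply A O (O ⊗[A] D), ← Ideal.mem_comap,
      IsLocalRing.eq_maximalIdeal this]
    exact h.nonunit
  exact hI.ne_top ((Ideal.eq_top_iff_one _).2 (by
    simpa using I.add_mem hm (I.mul_mem_right y hp')))

variable (D) in
/-- The units of the completed algebra which are integral. -/
def intUnits (ι : O →ₐ[A] Kh) : Subgroup (Kh ⊗[A] D)ˣ :=
  (Units.map (iota D ι).toRingHom.toMonoidHom).range

variable {F : MaximalSpectrum D → D} [Fintype (MaximalSpectrum D)]

/-- Units of the completion attached to the uniformisers. -/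
def FU (ι : O →ₐ[A] Kh) (h : IsCompletionData p ι) (hdvd : ∀ w, F w ∣ algebraMap A D p)
    (w : MaximalSpectrum D) : (Kh ⊗[A] D)ˣ :=
  (isUnit_of_dvd_unit (x := iota D ι (incl D O (F w))) (by
    have h' := map_dvd (iota D ι) (map_dvd (incl D O) (hdvd w))
    rwa [AlgHom.commutes, AlgHom.commutes, IsScalarTower.algebraMap_apply A Kh] at h')
    (h.unit.map (algebraMap Kh (Kh ⊗[A] D)))).unit

omit [IsDomain D] [FaithfulSMul A D] [IsLocalRing O] [Fintype (MaximalSpectrum D)] in
theorem FU_val (h : IsCompletionData p ι) (hdvd : ∀ w, F w ∣ algebraMap A D p)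
    (w : MaximalSpectrum D) : (FU ι h hdvd w : Kh ⊗[A] D) = iota D ι (incl D O (F w)) :=
  IsUnit.unit_spec _

/-- Products of powers of the uniformisers. -/
def monom {U : Type u} [CommGroup U] (v : MaximalSpectrum D → U) (e : MaximalSpectrum D → ℤ) : U :=
  ∏ w, v w ^ e w

omit [IsDomain D] [CommRing A] in
theorem monom_add {U : Type u} [CommGroup U] (v : MaximalSpectrum D → U)
    (e e' : MaximalSpectrum D → ℤ) : monom v (e + e') = monom v e * monom v e' := by
  simp [monom, zpow_add, Finset.prod_mul_distrib]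

omit [IsDomain D] in
theorem monom_map {U U' : Type u} [CommGroup U] [CommGroup U'] (φ : U →* U')
    (v : MaximalSpectrum D → U) (e : MaximalSpectrum D → ℤ) :
    φ (monom v e) = monom (fun w => φ (v w)) e := by
  simp [monom]

omit [IsDomain D] in
theorem monom_comp_equiv {U : Type u} [CommGroup U] (v : MaximalSpectrum D → U)
    (σ : MaximalSpectrum D ≃ MaximalSpectrum D) (e : MaximalSpectrum D → ℤ) :
    monom v e = monom (fun w => v (σ w)) (fun w => e (σ w)) :=
  (σ.prod_comp fun w => v w ^ e w).symm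

omit [IsDomain D] [FaithfulSMul A D] [IsLocalRing O] in
theorem iota_prod (h : IsCompletionData p ι) (hdvd : ∀ w, F w ∣ algebraMap A D p)
    (n : MaximalSpectrum D → ℕ) :
    (monom (FU ι h hdvd) (fun w => (n w : ℤ)) : (Kh ⊗[A] D)ˣ) =
      (iota D ι (incl D O (∏ w, F w ^ n w)) : Kh ⊗[A] D) := by
  simp [monom, Units.coe_prod, FU_val, map_prod, map_pow]

theorem exists_decomp (h : IsCompletionData p ι) (hspan : ∀ w, Ideal.span {F w} = w.asIdeal)
    (h0 : ∀ w, F w ≠ 0) (hdvd : ∀ w, F w ∣ algebraMap A D p) (hp0 : p ≠ 0)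
    (ζ : (Kh ⊗[A] D)ˣ) :
    ∃ e : MaximalSpectrum D → ℤ, ζ * (monom (FU ι h hdvd) e)⁻¹ ∈ intUnits D ι := by
  classical
  have hb : ∀ x : Kh ⊗[A] D, ∃ (N : ℕ) (z : O ⊗[A] D),
      iota D ι z = x * algebraMap A (Kh ⊗[A] D) p ^ N := by
    intro x
    induction x using TensorProduct.induction_on with
    | zero => exact ⟨0, 0, by simp⟩
    | tmul x d =>
      obtain ⟨N, z, hz⟩ := h.bdd x
      refine ⟨N, z ⊗ₜ d, ?_⟩
      rw [iota, Algebra.TensorProduct.map_tmul, hz, Algebra.TensorProduct.algebraMap_apply,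
        Algebra.TensorProduct.tmul_pow, one_pow, Algebra.TensorProduct.tmul_mul_tmul, mul_one]
      rfl
    | add x x' hx hx' =>
      obtain ⟨N, z, hz⟩ := hx
      obtain ⟨N', z', hz'⟩ := hx'
      refine ⟨N + N', z * algebraMap A _ p ^ N' + z' * algebraMap A _ p ^ N, ?_⟩
      simp only [map_add, map_mul, map_pow, AlgHom.commutes, hz, hz', pow_add]
      ring
  set P := algebraMap A (O ⊗[A] D) p
  obtain ⟨N, z, hz⟩ := hb (ζ : Kh ⊗[A] D)
  obtain ⟨N', z', hz'⟩ := hb ((ζ⁻¹ : (Kh ⊗[A] D)ˣ) : Kh ⊗[A] D)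
  have hzz : z * z' = P ^ (N + N') := iota_injective h (by
    rw [map_mul, hz, hz', map_pow, AlgHom.commutes, pow_add]
    linear_combination (algebraMap A (Kh ⊗[A] D) p ^ N * algebraMap A (Kh ⊗[A] D) p ^ N') * ζ.mul_inv)
  obtain ⟨d, y, hy⟩ := exists_approx h z (N + N' + 1)
  have hd : incl D O d = z * (1 - P * (z' * y)) := by
    rw [show incl D O d = z - P ^ (N + N' + 1) * y by rw [hy]; ring, pow_succ, ← hzz]; ring
  obtain ⟨v, hv⟩ := isUnit_one_sub_mul (D := D) h (z' * y)
  have hd0 : d ≠ 0 := by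
    rintro rfl
    rw [map_zero, ← hv] at hd
    have hz0 : z = 0 := by simpa using congrArg (· * (↑v⁻¹ : O ⊗[A] D)) hd.symm
    rw [hz0, zero_mul] at hzz
    obtain ⟨c, hc⟩ := dvd_of_incl_eq h (algebraMap A D p ^ (N + N')) (N + N' + 1) 0
      (by rw [map_pow, AlgHom.commutes, mul_zero, ← hzz])
    have hP0 : algebraMap A D p ≠ 0 := fun h' => hp0 (FaithfulSMul.algebraMap_injective A D (h'.trans (map_zero _).symm))
    have h1 : algebraMap A D p * c = 1 := mul_left_cancel₀ (pow_ne_zero (N + N') hP0)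
      (by rw [mul_one]; linear_combination -hc)
    have hu : IsUnit p := by
      by_contra hnu
      obtain ⟨I, hI⟩ := Ideal.exists_maximal D
      haveI := hI
      haveI := Ideal.isMaximal_comap_of_isIntegral_of_isMaximal (R := A) I
      have hpI : algebraMap A D p ∈ I := by
        rw [← Ideal.mem_comap, IsLocalRing.eq_maximalIdeal this]
        exact hnu
      exact hI.ne_top ((Ideal.eq_top_iff_one _).2 (h1 ▸ I.mul_mem_right c hpI))
    exact h.nonunit (hu.map _)
  obtain ⟨u, n, hu⟩ := exists_factor A hspan h0 d hd0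
  have hP0 : algebraMap A D p ≠ 0 := fun h' => hp0 (FaithfulSMul.algebraMap_injective A D (h'.trans (map_zero _).symm))
  obtain ⟨u₁, n₁, hu₁⟩ := exists_factor A hspan h0 (algebraMap A D p) hP0
  refine ⟨fun w => (n w : ℤ) - (N : ℤ) * n₁ w, ?_⟩
  let j : Dˣ →* (Kh ⊗[A] D)ˣ := Units.map ((iota D ι).comp (incl D O)).toRingHom.toMonoidHom
  let iv : (O ⊗[A] D)ˣ →* (Kh ⊗[A] D)ˣ := Units.map (iota D ι).toRingHom.toMonoidHom
  refine ⟨v⁻¹ * (Units.map (incl D O).toRingHom.toMonoidHom u) *
    (Units.map (incl D O).toRingHom.toMonoidHom u₁ ^ N)⁻¹, ?_⟩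
  show iv _ = _
  rw [eq_mul_inv_iff_mul_eq, show (fun w => (n w : ℤ) - (N : ℤ) * n₁ w) =
    (fun w => (n w : ℤ)) + (fun w => -((N : ℤ) * n₁ w)) by funext w; simp [sub_eq_add_neg], monom_add]
  have hneg : monom (FU ι h hdvd) (fun w => -((N : ℤ) * n₁ w)) =
      ((monom (FU ι h hdvd) (fun w => (n₁ w : ℤ))) ^ N)⁻¹ := by
    simp [monom, zpow_mul', ← Finset.prod_inv_distrib, ← Finset.prod_pow]
  rw [hneg]
  set M₀ := monom (FU ι h hdvd) (fun w => (n w : ℤ))
  set M₁ := monom (FU ι h hdvd) (fun w => (n₁ w : ℤ))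
  have e0 : iv (Units.map (incl D O).toRingHom.toMonoidHom u) * M₀ = ζ * iv v *
      (iv (Units.map (incl D O).toRingHom.toMonoidHom u₁) * M₁) ^ N := by
    refine Units.ext ?_
    simp only [Units.val_mul, Units.val_pow_eq_pow_val, M₀, M₁, iota_prod]
    show iota D ι (incl D O u) * _ = _ * iota D ι (v : O ⊗[A] D) *
      (iota D ι (incl D O u₁) * _) ^ N
    rw [← map_mul, ← map_mul, ← hu, ← map_mul, ← map_mul, ← hu₁, hd, hv, map_mul, hz,
      AlgHom.commutes, AlgHom.commutes]
    ring
  simp only [map_mul, map_inv, map_pow]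
  rw [mul_pow] at e0
  calc _ = (iv (Units.map (incl D O).toRingHom.toMonoidHom u) * M₀) * (iv v)⁻¹ *
        ((iv (Units.map (incl D O).toRingHom.toMonoidHom u₁) ^ N)⁻¹ * (M₁ ^ N)⁻¹) := by
        simp only [mul_assoc, mul_left_comm, mul_comm]
    _ = ζ := by rw [e0]; simp [mul_assoc, mul_left_comm, mul_comm]

theorem decomp_unique (h : IsCompletionData p ι) (hspan : ∀ w, Ideal.span {F w} = w.asIdeal)
    (h0 : ∀ w, F w ≠ 0) (hdvd : ∀ w, F w ∣ algebraMap A D p) (hp0 : p ≠ 0)
    (e : MaximalSpectrum D → ℤ) (he : monom (FU ι h hdvd) e ∈ intUnits D ι) : e = 0 := by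
  suffices key : ∀ e : MaximalSpectrum D → ℤ, monom (FU ι h hdvd) e ∈ intUnits D ι → ∀ w, 0 ≤ e w by
    funext w
    have h2 := key (-e) (by
      have : monom (FU ι h hdvd) (-e) = (monom (FU ι h hdvd) e)⁻¹ := by simp [monom]
      rw [this]; exact inv_mem he) w
    exact le_antisymm (by simpa using h2) (key e he w)
  intro e he
  obtain ⟨u, hu⟩ := he
  let a : MaximalSpectrum D → ℕ := fun w => (e w).toNat
  let b : MaximalSpectrum D → ℕ := fun w => (-e w).toNat
  have hab : monom (FU ι h hdvd) e * monom (FU ι h hdvd) (fun w => (b w : ℤ)) =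
      monom (FU ι h hdvd) (fun w => (a w : ℤ)) := by
    rw [← monom_add]
    congr 1
    funext w
    simp only [a, b, Pi.add_apply]
    omega
  rw [← hu] at hab
  have hab' : (u : O ⊗[A] D) * incl D O (∏ w, F w ^ b w) = incl D O (∏ w, F w ^ a w) := by
    refine iota_injective h ?_
    rw [map_mul, ← iota_prod h hdvd, ← iota_prod h hdvd, ← hab]
    rfl
  obtain ⟨b', hb'⟩ : ∏ w, F w ^ b w ∣ algebraMap A D p ^ (∑ w, b w) := by
    rw [← Finset.prod_pow_eq_pow_sum]
    exact Finset.prod_dvd_prod_of_dvd _ _ fun w _ => pow_dvd_pow_of_dvd (hdvd w) _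
  obtain ⟨c, hc⟩ := dvd_of_incl_eq h ((∏ w, F w ^ a w) * b') (∑ w, b w) u (by
    rw [map_mul, ← hab', mul_assoc, ← map_mul, ← hb', map_pow, AlgHom.commutes, mul_comm])
  have hP0 : algebraMap A D p ≠ 0 := fun h' => hp0 (FaithfulSMul.algebraMap_injective A D (h'.trans (map_zero _).symm))
  have hb'0 : b' ≠ 0 := fun h' => pow_ne_zero (∑ w, b w) hP0 (by rw [hb', h', mul_zero])
  have hle := le_of_prod_dvd hspan h0 (⟨c, mul_right_cancel₀ hb'0 (by
    rw [hc, hb']; ring)⟩ : (∏ w, F w ^ b w) ∣ ∏ w, F w ^ a w)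
  intro w
  have := hle w
  simp only [a, b] at this
  omega

variable [Algebra.FormallyUnramified A D] {G : Type u} [Group G] (act : G →* (D ≃ₐ[A] D))

variable (Kh) in
/-- The action on the completed algebra. -/
def actK (g : G) : Kh ⊗[A] D →ₐ[A] Kh ⊗[A] D :=
  Algebra.TensorProduct.map (AlgHom.id A Kh) (act g).toAlgHom

omit [IsDomain D] [FaithfulSMul A D] [IsLocalRing O] [Fintype (MaximalSpectrum D)] [Algebra.FormallyUnramified A D] in
theorem actK_iota (g : G) (z : O ⊗[A] D) : actK Kh act g (iota D ι z) =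
    iota D ι (Algebra.TensorProduct.map (AlgHom.id A O) (act g).toAlgHom z) := by
  induction z using TensorProduct.induction_on with
  | zero => simp
  | tmul x d => simp [actK, iota]
  | add z z' hz hz' => rw [map_add, map_add, map_add, map_add, hz, hz']

/-- Equivariant families of units of the completion are, up to integral units, equivariant families
of rational units. -/
theorem exists_equivariant_lift [Fintype G] {L : Type u} [Field L] [Algebra A L]
    (jD : D →ₐ[A] L) (hjD : Function.Injective jD)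
    (r : L →ₐ[A] Kh ⊗[A] D) (hr : ∀ d, r (jD d) = (1 : Kh) ⊗ₜ d)
    (actL : G → (L →ₐ[A] L)) (hactL : ∀ g d, actL g (jD d) = jD (act g d))
    (h : IsCompletionData p ι) (hp : IsLocalRing.maximalIdeal A = Ideal.span {p}) (hp0 : p ≠ 0)
    (hinj : Function.Injective act)
    (hfix : ∀ x : D, (∀ g, act g x = x) → x ∈ Set.range (algebraMap A D))
    {X : Type*} [CommMonoid X] (ξ : X →* (Kh ⊗[A] D)ˣ) (s : G → X → X)
    (hξ : ∀ g m, actK Kh act g (ξ m : Kh ⊗[A] D) = (ξ (s g m) : Kh ⊗[A] D)) :
    ∃ β : X →* Lˣ, (∀ g m, actL g (β m : L) = (β (s g m) : L)) ∧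
      ∀ m, ξ m * (Units.map r.toRingHom.toMonoidHom (β m))⁻¹ ∈ intUnits D ι := by
  classical
  obtain ⟨F, hF, hspan, hdvd⟩ := exists_uniformizers act hp hinj hfix
  have hP0 : algebraMap A D p ≠ 0 := fun h' => hp0 (FaithfulSMul.algebraMap_injective A D (h'.trans (map_zero _).symm))
  have h0 : ∀ w, F w ≠ 0 := fun w h' => hP0 (zero_dvd_iff.1 (h' ▸ hdvd w))
  choose e he using fun m => exists_decomp h hspan h0 hdvd hp0 (ξ m)
  have huniq : ∀ (ζ : (Kh ⊗[A] D)ˣ) (e₁ e₂ : MaximalSpectrum D → ℤ),
      ζ * (monom (FU ι h hdvd) e₁)⁻¹ ∈ intUnits D ι →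
      ζ * (monom (FU ι h hdvd) e₂)⁻¹ ∈ intUnits D ι → e₁ = e₂ := by
    intro ζ e₁ e₂ h₁ h₂
    have h3 : monom (FU ι h hdvd) (e₁ - e₂) ∈ intUnits D ι := by
      have h4 := mul_mem (inv_mem h₁) h₂
      have : monom (FU ι h hdvd) (e₁ - e₂) =
          (ζ * (monom (FU ι h hdvd) e₁)⁻¹)⁻¹ * (ζ * (monom (FU ι h hdvd) e₂)⁻¹) := by
        have h5 := monom_add (FU ι h hdvd) (e₁ - e₂) e₂
        rw [sub_add_cancel] at h5
        rw [h5]
        simp [mul_inv_rev, mul_comm, mul_left_comm, mul_assoc]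
      rw [this]; exact h4
    exact sub_eq_zero.1 (decomp_unique h hspan h0 hdvd hp0 _ h3)
  let v : MaximalSpectrum D → Lˣ := fun w => Units.mk0 (jD (F w))
    ((map_ne_zero_iff _ hjD).2 (h0 w))
  have hv : ∀ w, Units.map r.toRingHom.toMonoidHom (v w) = FU ι h hdvd w := fun w => by
    refine Units.ext ?_
    rw [FU_val]
    show r (jD (F w)) = _
    simp [hr, iota, incl]
  have hβ : ∀ m m', e (m * m') = e m + e m' := fun m m' => huniq (ξ (m * m')) _ _ (he _) (by
    have := mul_mem (he m) (he m')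
    rw [map_mul, monom_add, mul_inv_rev]
    convert this using 1
    simp [mul_comm, mul_left_comm, mul_assoc])
  have h1 : e 1 = 0 := huniq (ξ 1) _ _ (he 1) (by simp [monom])
  refine ⟨{ toFun := fun m => monom v (e m)
            map_one' := by rw [h1]; simp [monom]
            map_mul' := fun m m' => by rw [hβ, monom_add] }, fun g m => ?_, fun m => ?_⟩
  · let σ : MaximalSpectrum D ≃ MaximalSpectrum D :=
      { toFun := mv act g
        invFun := mv act g⁻¹
        left_inv := fun w => by rw [mv_mv, inv_mul_cancel, mv_one]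
        right_inv := fun w => by rw [mv_mv, mul_inv_cancel, mv_one] }
    -- the exponents are equivariant
    have hes : e (s g m) = fun w => e m (σ.symm w) := huniq (ξ (s g m)) _ _ (he _) (by
      obtain ⟨u, hu⟩ := he m
      let gU : (Kh ⊗[A] D)ˣ →* (Kh ⊗[A] D)ˣ := Units.map (actK Kh act g).toRingHom.toMonoidHom
      have h3 : ξ (s g m) = gU (ξ m) := Units.ext (hξ g m).symm
      have h4 : monom (FU ι h hdvd) (fun w => e m (σ.symm w)) = gU (monom (FU ι h hdvd) (e m)) := by
        rw [monom_map, monom_comp_equiv _ σ]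
        congr 1
        · funext w
          refine Units.ext ?_
          show (FU ι h hdvd (mv act g w) : Kh ⊗[A] D) = actK Kh act g (FU ι h hdvd w : Kh ⊗[A] D)
          rw [FU_val, FU_val, actK_iota, ← hF]
          simp [incl]
        · funext w
          rw [Equiv.symm_apply_apply]
      rw [h3, h4, ← map_inv, ← map_mul, ← hu]
      exact ⟨Units.map (Algebra.TensorProduct.map (AlgHom.id A O) (act g).toAlgHom).toRingHom.toMonoidHom u,
        Units.ext (actK_iota act g _).symm⟩)
    show (Units.map (actL g).toRingHom.toMonoidHom (monom v (e m)) : L) = _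
    refine congrArg Units.val ?_
    show _ = monom v (e (s g m))
    rw [hes, monom_map, monom_comp_equiv v σ]
    congr 1
    · funext w
      refine Units.ext ?_
      show actL g (jD (F w)) = jD (F (mv act g w))
      rw [hactL, hF]
    · funext w
      rw [Equiv.symm_apply_apply]
  · show ξ m * (Units.map r.toRingHom.toMonoidHom (monom v (e m)))⁻¹ ∈ _
    rw [monom_map, show (fun w => Units.map r.toRingHom.toMonoidHom (v w)) = FU ι h hdvd from funext hv]
    exact he m

end Groth.Agent.MultTori56
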