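/-
helper56: the completion of the fraction field of a discrete valuation ring satisfies the axioms used
in the factorisation of units.
-/
import Mathlib
import Groth.Agent.MultTori56.Decomp

set_option autoImplicit false
set_option maxHeartbeats 400000
universe u

open IsDedekindDomain

noncomputable section

namespace Groth.Agent.MultTori56

variable (A : Type u) [CommRing A] [IsDomain A] [IsDiscreteValuationRing A]
  (K : Type u) [Field K] [Algebra A K] [IsFractionRing A K] (v : HeightOneSpectrum A)

/-- The integers of the completion inside the completion. -/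
def iotaInt : v.adicCompletionIntegers K →ₐ[A] v.adicCompletion K :=
  IsScalarTower.toAlgHom A (v.adicCompletionIntegers K) (v.adicCompletion K)

variable {A}

theorem asIdeal_eq_maximal : v.asIdeal = IsLocalRing.maximalIdeal A :=
  IsLocalRing.eq_maximalIdeal v.isMaximal

theorem mem_range_of_valuation_le_one (k : K) (hk : v.valuation K k ≤ 1) :
    k ∈ (algebraMap A K).range :=
  HeightOneSpectrum.mem_integers_of_valuation_le_one K k fun w => by
    have : w = v := HeightOneSpectrum.ext ((asIdeal_eq_maximal w).trans (asIdeal_eq_maximal v).symm)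
    rw [this]; exact hk

theorem mem_range_of_mem_integers (k : K)
    (hk : algebraMap K (v.adicCompletion K) k ∈ v.adicCompletionIntegers K) :
    k ∈ (algebraMap A K).range := by
  refine mem_range_of_valuation_le_one K v k ?_
  rw [HeightOneSpectrum.mem_adicCompletionIntegers] at hk
  rwa [← HeightOneSpectrum.valuedAdicCompletion_eq_valuation' (v := v) k]

theorem exists_dense (p : A) (hp0 : p ≠ 0) (x : v.adicCompletionIntegers K) (N : ℕ) :
    ∃ (a : A) (y : v.adicCompletionIntegers K),
      x = algebraMap A _ a + algebraMap A _ p ^ N * y := by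
  set Kh := v.adicCompletion K
  have hP : (algebraMap A Kh p) ^ N ≠ 0 := pow_ne_zero _ (by
    rw [IsScalarTower.algebraMap_apply A K Kh]
    exact (map_ne_zero _).2 ((map_ne_zero_iff _ (IsFractionRing.injective A K)).2 hp0))
  have hcont : Continuous fun z : Kh => (z - (x : Kh)) * ((algebraMap A Kh p) ^ N)⁻¹ :=
    (continuous_id.sub continuous_const).mul continuous_const
  obtain ⟨k, hk⟩ := HeightOneSpectrum.denseRange_algebraMap (K := K) v
    |>.exists_mem_open ((Valued.isOpen_integer (R := Kh)).preimage hcont)
      ⟨(x : Kh), by simp⟩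
  set y : v.adicCompletionIntegers K := ⟨_, hk⟩
  have hy : algebraMap K Kh k = (x : Kh) + (algebraMap A Kh p) ^ N * (y : Kh) := by
    show _ = _ + _ * ((algebraMap K Kh k - (x : Kh)) * _)
    rw [mul_comm _ ((algebraMap A Kh p ^ N)⁻¹), mul_inv_cancel_left₀ hP]
    ring
  obtain ⟨a, rfl⟩ := mem_range_of_mem_integers K v k (by
    rw [hy]
    exact (x + algebraMap A (v.adicCompletionIntegers K) p ^ N * y).2)
  refine ⟨a, -y, Subtype.ext ?_⟩
  show (x : Kh) = algebraMap A Kh a + (algebraMap A Kh p) ^ N * -(y : Kh)
  rw [IsScalarTower.algebraMap_apply A K Kh a, hy]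
  ring

theorem isCompletionData (p : A) (hp : IsLocalRing.maximalIdeal A = Ideal.span {p}) (hp0 : p ≠ 0) :
    IsCompletionData p (iotaInt A K v) where
  inj := Subtype.val_injective
  dense := exists_dense K v p hp0
  pure a N y hy := by
    have hv : v.asIdeal = Ideal.span {p} := (asIdeal_eq_maximal v).trans hp
    have h1 : Valued.v (algebraMap A (v.adicCompletion K) a) ≤
        Valued.v (algebraMap A (v.adicCompletion K) p) ^ N := by
      have h2 := congrArg (fun t : v.adicCompletionIntegers K => Valued.v (t : v.adicCompletion K)) hy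
      simp only [MulMemClass.coe_mul, SubmonoidClass.coe_pow, map_mul, map_pow] at h2
      refine le_of_eq_of_le h2 ?_
      exact mul_le_of_le_one_right' y.2
    simp only [HeightOneSpectrum.valuedAdicCompletion_eq_valuation,
      HeightOneSpectrum.valuation_of_algebraMap, v.intValuation_singleton hp0 hv] at h1
    rw [← WithZero.exp_nsmul, nsmul_eq_mul, mul_neg, mul_one,
      v.intValuation_le_pow_iff_mem, hv, Ideal.span_singleton_pow,
      Ideal.mem_span_singleton] at h1
    exact h1
  bdd x := by
    obtain ⟨b, hb, hxb⟩ :=
      HeightOneSpectrum.adicCompletion.mul_nonZeroDivisor_mem_adicCompletionIntegers v x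
    obtain ⟨n, u, hu⟩ := IsDiscreteValuationRing.eq_unit_mul_pow_irreducible
      (nonZeroDivisors.ne_zero hb) ((IsDiscreteValuationRing.irreducible_iff_uniformizer p).2 hp)
    refine ⟨n, ⟨_, hxb⟩ * algebraMap A _ (↑u⁻¹ : A), ?_⟩
    show x * algebraMap A (v.adicCompletion K) b * algebraMap A (v.adicCompletion K) _ = _
    rw [hu, mul_assoc, ← map_mul, mul_comm (u : A), mul_assoc, Units.mul_inv, mul_one, map_pow]
  nonunit := by
    rw [HeightOneSpectrum.adicCompletionIntegers.isUnit_iff_valued_eq_one]
    show ¬ Valued.v (algebraMap A (v.adicCompletion K) p) = 1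
    rw [HeightOneSpectrum.valuedAdicCompletion_eq_valuation,
      HeightOneSpectrum.valuation_of_algebraMap,
      v.intValuation_singleton hp0 ((asIdeal_eq_maximal v).trans hp)]
    decide
  unit := by
    rw [IsScalarTower.algebraMap_apply A K (v.adicCompletion K)]
    exact ((map_ne_zero_iff _ (IsFractionRing.injective A K)).2 hp0).isUnit.map _

end Groth.Agent.MultTori56
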