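/-
helper56: a finite étale algebra over a discrete valuation ring is split, in the weak sense of having
a point, by a finite Galois extension through a finite unramified domain stable under the group.
-/
import Mathlib

set_option autoImplicit false
set_option maxHeartbeats 400000
universe u

open scoped TensorProduct
open AlgebraicGeometry CategoryTheory

noncomputable section

namespace Groth.Agent.MultTori56

/-- A clopen piece of a finite étale covering is a finite étale algebra. -/
theorem exists_etale_of_clopen {A : Type u} [CommRing A] {S' : Scheme.{u}}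
    (f : S' ⟶ Spec (CommRingCat.of A)) [IsFinite f] [Etale f] (U : S'.Opens)
    (hU : IsClosed (U : Set S')) (s : S') (hs : s ∈ U) :
    ∃ (B : Type u) (_ : CommRing B) (_ : Algebra A B) (t : Spec (CommRingCat.of B) ⟶ (U : Scheme.{u})),
      Module.Finite A B ∧ Algebra.FormallyUnramified A B ∧ Module.Flat A B ∧ Nontrivial B ∧
      t ≫ U.ι ≫ f = Spec.map (CommRingCat.ofHom (algebraMap A B)) := by
  haveI : IsClosedImmersion U.ι := by
    refine IsClosedImmersion.of_isPreimmersion U.ι ?_
    rw [Scheme.Opens.range_ι]; exact hU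
  haveI : IsAffine (U : Scheme.{u}) := isAffine_of_isAffineHom (U.ι ≫ f)
  let B := Γ((U : Scheme.{u}), ⊤)
  let t := (U : Scheme.{u}).isoSpec.inv
  let φ : CommRingCat.of A ⟶ B := Spec.preimage (t ≫ U.ι ≫ f)
  letI : Algebra A B := φ.hom.toAlgebra
  have hφ : Spec.map φ = t ≫ U.ι ≫ f := Spec.map_preimage _
  have hfin : IsFinite (Spec.map φ) := by rw [hφ]; infer_instance
  have het : Etale (Spec.map φ) := by rw [hφ]; infer_instance
  rw [IsFinite.SpecMap_iff] at hfin
  rw [HasRingHomProperty.Spec_iff (P := @Etale)] at het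
  haveI : Module.Finite A B := hfin
  haveI : Algebra.Etale A B := het
  haveI : Nonempty (Spec B) := ⟨(U : Scheme.{u}).isoSpec.hom ⟨s, hs⟩⟩
  refine ⟨B, inferInstance, φ.hom.toAlgebra, t, inferInstance, inferInstance, inferInstance,
    PrimeSpectrum.nonempty_iff_nontrivial.1 (inferInstanceAs (Nonempty (Spec B))), hφ.symm⟩

variable (A : Type u) [CommRing A] [IsDomain A] [IsDiscreteValuationRing A]
  (K : Type u) [Field K] [Algebra A K] [IsFractionRing A K]

/-- A Galois field of definition of a point of a finite étale algebra. -/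
theorem exists_galois_cover (B : Type u) [CommRing B] [Algebra A B] [Module.Finite A B]
    [Algebra.FormallyUnramified A B] [Module.Flat A B] [Nontrivial B] :
    ∃ (M : Type u) (_ : Field M) (_ : Algebra A M) (_ : Algebra K M) (_ : IsScalarTower A K M)
      (_ : IsGalois K M) (_ : FiniteDimensional K M) (D : Subalgebra A M) (_ : B →ₐ[A] D),
      Module.Finite A D ∧ Algebra.FormallyUnramified A D ∧
      (∀ (τ : M ≃ₐ[K] M) (d : M), d ∈ D → τ d ∈ D) ∧
      ∀ m : M, ∃ a : A, a ≠ 0 ∧ algebraMap A M a * m ∈ D := by
  classical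
  haveI : Module.Free A B := Module.free_of_flat_of_isLocalRing
  haveI : Nontrivial (K ⊗[A] B) := by
    haveI : Nonempty (Module.Free.ChooseBasisIndex A B) :=
      (Module.Free.chooseBasis A B).index_nonempty
    exact Module.nontrivial_of_finrank_pos (R := K) (by
      rw [Module.finrank_baseChange, Module.finrank_eq_card_chooseBasisIndex]; exact Fintype.card_pos)
  obtain ⟨N, hN⟩ := Ideal.exists_maximal (K ⊗[A] B)
  let L0 : Type u := (K ⊗[A] B) ⧸ N
  letI : Field L0 := Ideal.Quotient.field N
  haveI : Module.Finite K L0 := Module.Finite.of_surjective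
    (Ideal.Quotient.mkₐ K N).toLinearMap Ideal.Quotient.mk_surjective
  haveI : Algebra.FormallyUnramified K L0 :=
    Algebra.FormallyUnramified.of_surjective (Ideal.Quotient.mkₐ K N) Ideal.Quotient.mk_surjective
  haveI : Algebra.IsSeparable K L0 := Algebra.FormallyUnramified.isSeparable K L0
  let Ω := SeparableClosure K
  let ψ : L0 →ₐ[K] Ω := IsSepClosed.lift
  let M : IntermediateField K Ω := IntermediateField.normalClosure K L0 Ω
  haveI : Normal K M := normalClosure.normal K L0 Ω
  haveI : FiniteDimensional K M := normalClosure.is_finiteDimensional K L0 Ω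
  haveI : IsGalois K M := ⟨⟩
  let q : B →ₐ[A] L0 := ((Ideal.Quotient.mkₐ K N).restrictScalars A).comp
    Algebra.TensorProduct.includeRight
  let em : (L0 →ₐ[K] M) → B →ₐ[A] M := fun f => (f.restrictScalars A).comp q
  haveI : Finite (L0 →ₐ[K] M) := inferInstance
  obtain ⟨b, hb⟩ := (Module.finite_def.1 (inferInstance : Module.Finite A B))
  let Sset : Set M := ⋃ f : L0 →ₐ[K] M, em f '' (b : Set B)
  have hSfin : Sset.Finite := Set.finite_iUnion fun f => b.finite_toSet.image _
  have hSint : ∀ x ∈ Sset, IsIntegral A x := by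
    intro x hx
    obtain ⟨f, y, -, rfl⟩ := Set.mem_iUnion.1 hx
    exact (Algebra.IsIntegral.isIntegral y).map (em f)
  let D : Subalgebra A M := Algebra.adjoin A Sset
  have hmem : ∀ (f : L0 →ₐ[K] M) (y : B), em f y ∈ D := by
    intro f y
    have hy : y ∈ Submodule.span A (b : Set B) := hb ▸ Submodule.mem_top
    have : em f y ∈ Submodule.span A (em f '' (b : Set B)) := by
      rw [← AlgHom.toLinearMap_apply, show em f '' (b : Set B) = (em f).toLinearMap '' (b : Set B) from rfl,
        Submodule.span_image]
      exact Submodule.mem_map_of_mem hy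
    refine Algebra.span_le_adjoin A _ (Submodule.span_mono ?_ this)
    exact Set.subset_iUnion (fun f => em f '' (b : Set B)) f
  let f₀ : L0 →ₐ[K] M := (normalClosure.algHomEquiv K L0 Ω).symm ψ
  refine ⟨M, inferInstance, inferInstance, inferInstance, inferInstance, inferInstance, inferInstance,
    D, (em f₀).codRestrict D (hmem f₀), Algebra.finite_adjoin_of_finite_of_isIntegral hSfin hSint,
    ?_, ?_, ?_⟩
  · rw [Algebra.FormallyUnramified.iff_comp_injective]
    intro C _ _ I hI g₁ g₂ hg
    refine AlgHom.ext_of_adjoin_eq_top (Algebra.adjoin_adjoin_coe_preimage (R := A) (s := Sset)) ?_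
    intro x hx
    obtain ⟨f, y, -, hy⟩ := Set.mem_iUnion.1 hx
    have h : g₁.comp ((em f).codRestrict D (hmem f)) = g₂.comp ((em f).codRestrict D (hmem f)) :=
      Algebra.FormallyUnramified.comp_injective I hI (by
        rw [← AlgHom.comp_assoc, ← AlgHom.comp_assoc]
        exact congrArg (fun h => h.comp ((em f).codRestrict D (hmem f))) hg)
    rw [show x = (em f).codRestrict D (hmem f) y from Subtype.ext hy.symm]
    exact DFunLike.congr_fun h y
  · intro τ d hd
    suffices D ≤ D.comap (τ.toAlgHom.restrictScalars A) from this hd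
    refine Algebra.adjoin_le fun x hx => ?_
    obtain ⟨f, y, -, rfl⟩ := Set.mem_iUnion.1 hx
    exact hmem (τ.toAlgHom.comp f) y
  · have hgen : Algebra.adjoin K Sset = ⊤ := by
      let E : Subalgebra K M := Algebra.adjoin K Sset
      let E' : IntermediateField K M :=
        E.toIntermediateField fun x hx => Subalgebra.inv_mem_of_algebraic E (x := ⟨x, hx⟩)
          (Algebra.IsAlgebraic.isAlgebraic (R := K) x)
      have hle : ∀ (f : L0 →ₐ[K] M) (z : L0), f z ∈ E := by
        intro f z
        obtain ⟨w, rfl⟩ := Ideal.Quotient.mk_surjective z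
        induction w using TensorProduct.induction_on with
        | zero => rw [map_zero, map_zero]; exact E.zero_mem
        | tmul c y =>
          rw [show Ideal.Quotient.mk N (c ⊗ₜ[A] y) = c • q y by
            show Ideal.Quotient.mkₐ K N (c ⊗ₜ[A] y) = c • Ideal.Quotient.mkₐ K N (1 ⊗ₜ[A] y)
            rw [← map_smul, TensorProduct.smul_tmul', smul_eq_mul, mul_one], map_smul]
          refine E.smul_mem ?_ c
          have h1 : em f y ∈ D := hmem f y
          exact (Algebra.adjoin_le (S := E.restrictScalars A) Algebra.subset_adjoin : D ≤ _) h1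
        | add w₁ w₂ h₁ h₂ => rw [map_add, map_add]; exact E.add_mem h₁ h₂
      rw [eq_top_iff]
      intro m _
      have h2 : M ≤ E'.map M.val := by
        refine normalClosure_le_iff.2 fun f => ?_
        rintro _ ⟨z, rfl⟩
        exact ⟨(normalClosure.algHomEquiv K L0 Ω).symm f z, hle _ z, rfl⟩
      obtain ⟨e, he, heq⟩ := h2 m.2
      rw [show m = e from Subtype.ext heq.symm]
      exact he
    intro m
    have hm : m ∈ Algebra.adjoin K Sset := hgen ▸ Algebra.mem_top
    induction hm using Algebra.adjoin_induction with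
    | mem x hx => exact ⟨1, one_ne_zero, by rw [map_one, one_mul]; exact Algebra.subset_adjoin hx⟩
    | algebraMap k =>
      obtain ⟨n, d, hd, rfl⟩ := IsFractionRing.div_surjective (A := A) k
      refine ⟨d, nonZeroDivisors.ne_zero hd, ?_⟩
      rw [IsScalarTower.algebraMap_apply A K M, ← map_mul,
        mul_div_cancel₀ _ (IsFractionRing.to_map_ne_zero_of_mem_nonZeroDivisors hd),
        ← IsScalarTower.algebraMap_apply A K M]
      exact D.algebraMap_mem n
    | add x y _ _ hx hy =>
      obtain ⟨a, ha, hax⟩ := hx
      obtain ⟨a', ha', hay⟩ := hy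
      refine ⟨a * a', mul_ne_zero ha ha', ?_⟩
      rw [map_mul, mul_add, show algebraMap A M a * algebraMap A M a' * x =
        algebraMap A M a' * (algebraMap A M a * x) by ring, mul_assoc _ _ y]
      exact D.add_mem (D.mul_mem (D.algebraMap_mem a') hax) (D.mul_mem (D.algebraMap_mem a) hay)
    | mul x y _ _ hx hy =>
      obtain ⟨a, ha, hax⟩ := hx
      obtain ⟨a', ha', hay⟩ := hy
      refine ⟨a * a', mul_ne_zero ha ha', ?_⟩
      rw [map_mul, mul_mul_mul_comm]
      exact D.mul_mem hax hay

end Groth.Agent.MultTori56
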