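/-
helper56: points of a torus split by a ring `D` with values in `D`-algebras, as families of units
indexed by characters, and the twisting by automorphisms of `D`.
-/
import Mathlib
import Groth.Agent.RedPts82.Points

set_option autoImplicit false
set_option maxHeartbeats 400000
universe u

open CategoryTheory MonoidalCategory CartesianMonoidalCategory MonObj GrpObj AlgebraicGeometry

noncomputable section

namespace Groth.Agent.MultTori56

open RedPts82

/-- A unit of the group algebra of a two unique sums group over a domain is a monomial. -/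
theorem exists_single_of_isUnit {R : Type*} [CommRing R] [IsDomain R] {M : Type*} [CommMonoid M]
    [TwoUniqueProds M] {a b : MonoidAlgebra R M} (hab : a * b = 1) :
    ∃ (m : M) (c : R), a = MonoidAlgebra.single m c := by
  classical
  have ha : a ≠ 0 := fun h => zero_ne_one (α := MonoidAlgebra R M) (by rw [← hab, h, zero_mul])
  have hb : b ≠ 0 := fun h => zero_ne_one (α := MonoidAlgebra R M) (by rw [← hab, h, mul_zero])
  have ha' : a.coeff.support.Nonempty := by simpa [Finsupp.support_nonempty_iff] using ha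
  have hb' : b.coeff.support.Nonempty := by simpa [Finsupp.support_nonempty_iff] using hb
  have hcard : a.coeff.support.card * b.coeff.support.card ≤ 1 := by
    by_contra! h
    obtain ⟨p₁, hp₁, p₂, hp₂, hne, h₁, h₂⟩ := TwoUniqueProds.uniqueMul_of_one_lt_card h
    rw [Finset.mem_product, Finsupp.mem_support_iff, Finsupp.mem_support_iff] at hp₁ hp₂
    have key : ∀ p : M × M, a.coeff p.1 ≠ 0 → b.coeff p.2 ≠ 0 →
        UniqueMul a.coeff.support b.coeff.support p.1 p.2 → p.1 * p.2 = 1 := by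
      intro p h3 h4 h5
      have h6 := MonoidAlgebra.coeff_mul_mul_of_uniqueMul h5
      rw [hab] at h6
      by_contra h7
      apply mul_ne_zero h3 h4
      rw [← h6, MonoidAlgebra.one_def, MonoidAlgebra.coeff_single_apply, if_neg (Ne.symm h7)]
    have e := h₁ (Finsupp.mem_support_iff.2 hp₂.1) (Finsupp.mem_support_iff.2 hp₂.2)
      ((key p₂ hp₂.1 hp₂.2 h₂).trans (key p₁ hp₁.1 hp₁.2 h₁).symm)
    exact hne (Prod.ext e.1.symm e.2.symm)
  have h1 : a.coeff.support.card = 1 := by
    have := ha'.card_pos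
    have := hb'.card_pos
    nlinarith
  obtain ⟨m, hm⟩ := Finset.card_eq_one.1 h1
  refine ⟨m, a.coeff m, MonoidAlgebra.coeff_injective ?_⟩
  obtain ⟨-, hm'⟩ := Finsupp.support_eq_singleton.1 hm
  exact hm'

variable {A : Type u} [CommRing A] {T : Over (Spec (CommRingCat.of A))}

variable (T) in
/-- Points of `T` with values in an algebra. -/
abbrev APt (R : Type u) [CommRing R] [Algebra A R] : Type u :=
  Over.mk (Spec.map (CommRingCat.ofHom (algebraMap A R))) ⟶ T

variable {R R' : Type u} [CommRing R] [Algebra A R] [CommRing R'] [Algebra A R']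

/-- The map of spectra of an algebra map, over the base. -/
def specOver (φ : R →ₐ[A] R') : Over.mk (Spec.map (CommRingCat.ofHom (algebraMap A R'))) ⟶
    Over.mk (Spec.map (CommRingCat.ofHom (algebraMap A R))) :=
  Over.homMk (Spec.map (CommRingCat.ofHom φ.toRingHom)) (by
    simp only [Over.mk_left, Over.mk_hom, ← Spec.map_comp, ← CommRingCat.ofHom_comp]
    exact congrArg (fun h => Spec.map (CommRingCat.ofHom h)) φ.comp_algebraMap)

variable {U : Scheme.{u}} {g : U ⟶ Spec (CommRingCat.of A)} {X : Type} [AddCommGroup X]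
  (e : Red.bc g T ≅ Red.DS U X) {D : Type u} [CommRing D] [Algebra A D]
  (t₀ : Spec (CommRingCat.of D) ⟶ U) (ht₀ : t₀ ≫ g = Spec.map (CommRingCat.ofHom (algebraMap A D)))

/-- The structure map of an algebra over the trivialising ring. -/
abbrev strU (j : D →ₐ[A] R) : Spec (CommRingCat.of R) ⟶ U :=
  Spec.map (CommRingCat.ofHom j.toRingHom) ≫ t₀

include ht₀ in
theorem strU_comp (j : D →ₐ[A] R) :
    strU t₀ j ≫ g = Spec.map (CommRingCat.ofHom (algebraMap A R)) := by
  rw [Category.assoc, ht₀, ← Spec.map_comp, ← CommRingCat.ofHom_comp]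
  exact congrArg (fun h => Spec.map (CommRingCat.ofHom h)) j.comp_algebraMap

/-- A point, seen over the trivialising scheme. -/
def upPt (j : D →ₐ[A] R) : (Over.map g).obj (Over.mk (strU t₀ j)) ⟶
    Over.mk (Spec.map (CommRingCat.ofHom (algebraMap A R))) :=
  Over.homMk (𝟙 _) (by simp [strU_comp t₀ ht₀ j])

/-- A point as a point of the split torus. -/
def dsPt (j : D →ₐ[A] R) (x : APt T R) : Over.mk (strU t₀ j) ⟶ Red.DS U X :=
  ofBase g (upPt t₀ ht₀ j ≫ x) ≫ e.hom

/-- The value of a character at a point. -/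
def chi (j : D →ₐ[A] R) (x : APt T R) (m : X) : R :=
  (Scheme.ΓSpecIso (CommRingCat.of R)).hom.hom
    (show Γ(Spec (CommRingCat.of R), ⊤) from dsFn (dsPt e t₀ ht₀ j x) m)

theorem chi_isUnit (j : D →ₐ[A] R) (x : APt T R) (m : X) : IsUnit (chi e t₀ ht₀ j x m) :=
  IsUnit.map (M := Γ(Spec (CommRingCat.of R), ⊤)) (Scheme.ΓSpecIso (CommRingCat.of R)).hom.hom
    (dsFn_isUnit (dsPt e t₀ ht₀ j x) m)

theorem chi_zero (j : D →ₐ[A] R) (x : APt T R) : chi e t₀ ht₀ j x 0 = 1 := by
  rw [chi, dsFn_zero]; exact map_one _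

theorem chi_add (j : D →ₐ[A] R) (x : APt T R) (m m' : X) :
    chi e t₀ ht₀ j x (m + m') = chi e t₀ ht₀ j x m * chi e t₀ ht₀ j x m' := by
  rw [chi, dsFn_add]; exact map_mul _ _ _

/-- The character values at a point, as units. -/
def chiHom (j : D →ₐ[A] R) (x : APt T R) : Multiplicative X →* Rˣ where
  toFun m := (chi_isUnit e t₀ ht₀ j x m.toAdd).unit
  map_one' := Units.ext (chi_zero e t₀ ht₀ j x)
  map_mul' m m' := Units.ext (chi_add e t₀ ht₀ j x m.toAdd m'.toAdd)

theorem chi_mul [GrpObj T] [IsMonHom e.hom] (j : D →ₐ[A] R) (x y : APt T R) (m : X) :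
    chi e t₀ ht₀ j (x * y) m = chi e t₀ ht₀ j x m * chi e t₀ ht₀ j y m := by
  have h : dsPt e t₀ ht₀ j (x * y) = dsPt e t₀ ht₀ j x * dsPt e t₀ ht₀ j y := by
    rw [dsPt, dsPt, dsPt, ← MonObj.mul_comp, MonObj.comp_mul]
    congr 1
    apply toBase_injective g
    rw [toBase_mul, toBase_ofBase, toBase_ofBase, toBase_ofBase]
  rw [chi, h, dsFn_mul]
  exact map_mul _ _ _

theorem chi_injective (j : D →ₐ[A] R) {x y : APt T R}
    (h : ∀ m, chi e t₀ ht₀ j x m = chi e t₀ ht₀ j y m) : x = y := by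
  have h1 : dsPt e t₀ ht₀ j x = dsPt e t₀ ht₀ j y := dsFn_injective fun m => by
    exact (Scheme.ΓSpecIso (CommRingCat.of R)).commRingCatIsoToRingEquiv.injective (h m)
  rw [dsPt, dsPt, cancel_mono] at h1
  have h2 := congrArg (toBase g) h1
  rw [toBase_ofBase, toBase_ofBase] at h2
  apply Over.OverMorphism.ext
  simpa [upPt] using congrArg (·.left) h2

theorem chi_surjective (j : D →ₐ[A] R) (c : Multiplicative X →* Rˣ) :
    ∃ x : APt T R, ∀ m, chi e t₀ ht₀ j x m = c (Multiplicative.ofAdd m) := by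
  obtain ⟨t, ht⟩ := dsFn_surjective (X := Over.mk (strU t₀ j)) (S := U)
    (((Scheme.ΓSpecIso (CommRingCat.of R)).inv.hom.toMonoidHom).comp ((Units.coeHom R).comp c))
  let y : (Over.map g).obj (Over.mk (strU t₀ j)) ⟶ T := toBase g (t ≫ e.inv)
  refine ⟨Over.homMk y.left ((Over.w y).trans (strU_comp t₀ ht₀ j)), fun m => ?_⟩
  have h1 : upPt t₀ ht₀ j ≫ Over.homMk y.left ((Over.w y).trans (strU_comp t₀ ht₀ j)) = y := by
    apply Over.OverMorphism.ext
    simp [upPt]
  have h2 : dsPt e t₀ ht₀ j (Over.homMk y.left ((Over.w y).trans (strU_comp t₀ ht₀ j))) = t := by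
    rw [dsPt, h1]
    have : ofBase g y = t ≫ e.inv := by apply toBase_injective g; rw [toBase_ofBase]
    rw [this, Category.assoc, Iso.inv_hom_id, Category.comp_id]
  rw [chi, h2, ht]
  exact congr($((Scheme.ΓSpecIso (CommRingCat.of R)).inv_hom_id).hom _)

theorem chi_natural (φ : R →ₐ[A] R') (j : D →ₐ[A] R) (x : APt T R) (m : X) :
    chi e t₀ ht₀ (φ.comp j) (specOver φ ≫ x) m = φ (chi e t₀ ht₀ j x m) := by
  have hw : Spec.map (CommRingCat.ofHom φ.toRingHom) ≫ strU t₀ j = strU t₀ (φ.comp j) := by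
    rw [← Category.assoc, ← Spec.map_comp]
    rfl
  let k : Over.mk (strU t₀ (φ.comp j)) ⟶ Over.mk (strU t₀ j) :=
    Over.homMk (Spec.map (CommRingCat.ofHom φ.toRingHom)) hw
  have h : dsPt e t₀ ht₀ (φ.comp j) (specOver φ ≫ x) = k ≫ dsPt e t₀ ht₀ j x := by
    rw [dsPt, dsPt, ← Category.assoc k]
    congr 1
    apply toBase_injective g
    rw [toBase_comp, toBase_ofBase, toBase_ofBase]
    apply Over.OverMorphism.ext
    simp [upPt, specOver, k]
  rw [chi, chi, h, dsFn_comp]
  exact congr($(Scheme.ΓSpecIso_naturality (CommRingCat.ofHom φ.toRingHom)).hom _)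

/-- Twisting the trivialisation by an automorphism of the trivialising ring permutes characters. -/
theorem exists_twist [GrpObj T] [IsMonHom e.hom] [IsDomain D] [TwoUniqueSums X] (σ : D ≃ₐ[A] D) :
    ∃ s : X → X, ∀ (R : Type u) [CommRing R] [Algebra A R] (j : D →ₐ[A] R) (x : APt T R) (m : X),
      chi e t₀ ht₀ (j.comp σ.toAlgHom) x m = chi e t₀ ht₀ j x (s m) := by
  let P := MonoidAlgebra D (Multiplicative X)
  let j₀ : D →ₐ[A] P := IsScalarTower.toAlgHom A D P
  obtain ⟨x₀, hx₀⟩ := chi_surjective e t₀ ht₀ j₀ ((MonoidAlgebra.of D (Multiplicative X)).toHomUnits)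
  obtain ⟨x₁, hx₁⟩ := chi_surjective e t₀ ht₀ (AlgHom.id A D) (1 : Multiplicative X →* Dˣ)
  have hx₁' : x₁ = 1 := by
    have h := chi_injective e t₀ ht₀ (AlgHom.id A D) (x := x₁ * x₁) (y := x₁) fun m => by
      rw [chi_mul, hx₁]; simp
    simpa using h
  let ev : P →ₐ[A] D := (MonoidAlgebra.lift D D (Multiplicative X) 1).restrictScalars A
  have hev : ev.comp j₀ = AlgHom.id A D := by
    ext d; simp [ev, j₀]
  have hone : ∀ (j : D →ₐ[A] D) (m : X), chi e t₀ ht₀ j 1 m = 1 := by
    intro j m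
    refine (chi_isUnit e t₀ ht₀ j 1 m).mul_left_cancel ?_
    rw [← chi_mul, _root_.mul_one (1 : APt T D), _root_.mul_one]
  have h1 : ∀ m, ∃ n : X, chi e t₀ ht₀ (j₀.comp σ.toAlgHom) x₀ m =
      MonoidAlgebra.single (Multiplicative.ofAdd n) 1 := by
    intro m
    obtain ⟨b, hb⟩ := (chi_isUnit e t₀ ht₀ (j₀.comp σ.toAlgHom) x₀ m).exists_right_inv
    obtain ⟨n, c, hc⟩ := exists_single_of_isUnit hb
    have h2 : specOver ev ≫ x₀ = 1 := by
      refine chi_injective e t₀ ht₀ (AlgHom.id A D) fun m => ?_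
      rw [← hx₁', hx₁, ← hev, chi_natural, hx₀]
      show (MonoidAlgebra.lift D D (Multiplicative X) 1)
        (MonoidAlgebra.of D (Multiplicative X) (Multiplicative.ofAdd m)) = _
      rw [MonoidAlgebra.lift_of]
      simp
    have h3 := chi_natural e t₀ ht₀ ev (j₀.comp σ.toAlgHom) x₀ m
    rw [h2, hone, hc] at h3
    refine ⟨n.toAdd, ?_⟩
    rw [hc]
    have : c = 1 := by
      have h4 : (MonoidAlgebra.lift D D (Multiplicative X) 1) (MonoidAlgebra.single n c) = 1 := h3.symm
      rw [MonoidAlgebra.lift_single] at h4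
      simpa using h4
    rw [this]; rfl
  choose s hs using h1
  refine ⟨s, fun R _ _ j x m => ?_⟩
  letI := j.toRingHom.toAlgebra
  haveI : IsScalarTower A D R := IsScalarTower.of_algebraMap_eq fun a => (j.commutes a).symm
  let φ : P →ₐ[A] R := (MonoidAlgebra.lift D R (Multiplicative X)
    ((Units.coeHom R).comp (chiHom e t₀ ht₀ j x))).restrictScalars A
  have hφ : φ.comp j₀ = j := by
    exact AlgHom.ext fun d => (MonoidAlgebra.lift D R (Multiplicative X)
      ((Units.coeHom R).comp (chiHom e t₀ ht₀ j x))).commutes d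
  have hφn : ∀ n : X, φ (MonoidAlgebra.single (Multiplicative.ofAdd n) 1) = chi e t₀ ht₀ j x n := by
    intro n
    show (MonoidAlgebra.lift D R (Multiplicative X) ((Units.coeHom R).comp (chiHom e t₀ ht₀ j x))) _ = _
    rw [MonoidAlgebra.lift_single, one_smul]
    rfl
  have hx : specOver φ ≫ x₀ = x := by
    refine chi_injective e t₀ ht₀ j fun n => ?_
    conv_lhs => rw [← hφ]
    rw [chi_natural, hx₀]
    exact (congrArg φ (MonoidAlgebra.of_apply D (Multiplicative X) _)).trans (hφn n)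
  conv_lhs => rw [← hx, ← hφ, AlgHom.comp_assoc]
  rw [chi_natural, hs, hφn]

end Groth.Agent.MultTori56
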