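/-
helper56: descent of points of affine schemes along injective maps of algebras.
-/
import Mathlib
import Groth.Agent.MultTori56.Points

set_option autoImplicit false
set_option maxHeartbeats 400000
universe u

open CategoryTheory AlgebraicGeometry

noncomputable section

namespace Groth.Agent.MultTori56

variable {A : Type u} [CommRing A] {T : Over (Spec (CommRingCat.of A))} [IsAffine T.left]
  {R R' R'' : Type u} [CommRing R] [Algebra A R] [CommRing R'] [Algebra A R'] [CommRing R''] [Algebra A R'']

theorem specOver_comp (i : R →ₐ[A] R') (i' : R' →ₐ[A] R'') :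
    specOver i' ≫ specOver i = specOver (i'.comp i) := by
  apply Over.OverMorphism.ext
  simp only [specOver, Over.comp_left, Over.homMk_left, ← Spec.map_comp]
  rfl

/-- The map on global functions of a point. -/
def ptRing (x : APt T R) : Γ(T.left, ⊤) →+* R :=
  (Spec.preimage (x.left ≫ T.left.isoSpec.hom)).hom

theorem ptRing_comp (i : R →ₐ[A] R') (x : APt T R) :
    ptRing (specOver i ≫ x) = i.toRingHom.comp (ptRing x) := by
  have h : Spec.preimage ((specOver i ≫ x).left ≫ T.left.isoSpec.hom) =
      Spec.preimage (x.left ≫ T.left.isoSpec.hom) ≫ CommRingCat.ofHom i.toRingHom := by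
    apply Spec.map_injective
    rw [Spec.map_comp, Spec.map_preimage, Spec.map_preimage]
    simp [specOver]
  exact congrArg CommRingCat.Hom.hom h

theorem ptRing_injective : Function.Injective (ptRing (T := T) (R := R)) := by
  intro x y h
  apply Over.OverMorphism.ext
  rw [← cancel_mono T.left.isoSpec.hom]
  rw [← Spec.map_preimage (x.left ≫ T.left.isoSpec.hom), ← Spec.map_preimage (y.left ≫ T.left.isoSpec.hom)]
  exact congrArg Spec.map (CommRingCat.hom_ext h)

theorem specOver_injective (i : R →ₐ[A] R') (hi : Function.Injective i) :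
    Function.Injective (fun x : APt T R => specOver i ≫ x) := by
  intro x y h
  refine ptRing_injective (RingHom.ext fun z => hi ?_)
  have h2 := congrArg ptRing h
  rw [ptRing_comp, ptRing_comp] at h2
  exact RingHom.congr_fun h2 z

theorem exists_descend (i : R →ₐ[A] R') (hi : Function.Injective i) (x : APt T R')
    (hx : ∀ z, ptRing x z ∈ Set.range i) : ∃ y : APt T R, specOver i ≫ y = x := by
  let e := RingEquiv.ofBijective i.toRingHom.rangeRestrict
    ⟨fun _ _ h => hi (congrArg Subtype.val h), RingHom.rangeRestrict_surjective _⟩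
  let ψ : Γ(T.left, ⊤) →+* R := e.symm.toRingHom.comp ((ptRing x).codRestrict _ hx)
  have hψ : i.toRingHom.comp ψ = ptRing x :=
    RingHom.ext fun z => congrArg Subtype.val (e.apply_symm_apply ⟨ptRing x z, hx z⟩)
  let y₀ : Spec (CommRingCat.of R) ⟶ T.left := Spec.map (CommRingCat.ofHom ψ) ≫ T.left.isoSpec.inv
  have hy₀ : Spec.map (CommRingCat.ofHom i.toRingHom) ≫ y₀ = x.left := by
    rw [← Category.assoc, Iso.comp_inv_eq, ← Spec.map_comp, ← CommRingCat.ofHom_comp, hψ]
    exact Spec.map_preimage _
  have hw : y₀ ≫ T.hom = Spec.map (CommRingCat.ofHom (algebraMap A R)) := by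
    rw [← Spec.map_preimage (y₀ ≫ T.hom)]
    refine congrArg Spec.map (CommRingCat.hom_ext (RingHom.ext fun a => hi ?_))
    have h1 : Spec.preimage (y₀ ≫ T.hom) ≫ CommRingCat.ofHom i.toRingHom =
        CommRingCat.ofHom (algebraMap A R') := by
      apply Spec.map_injective
      rw [Spec.map_comp, Spec.map_preimage, ← Category.assoc, hy₀]
      exact Over.w x
    exact (congr($(h1).hom a)).trans (i.commutes a).symm
  exact ⟨Over.homMk y₀ hw, Over.OverMorphism.ext hy₀⟩

end Groth.Agent.MultTori56
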