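/-
helper56: points of an isotrivial torus with values in the completion of the fraction field of a
discrete valuation ring are products of integral points and rational points.
-/
import Mathlib
import Groth.Prelude.Def_TwC
import Groth.Agent.MultTori56.Completion
import Groth.Agent.MultTori56.Cover
import Groth.Agent.MultTori56.Descend
import Groth.Agent.Hopf35.TorusDom

set_option autoImplicit false
set_option maxHeartbeats 1000000
universe u

open CategoryTheory MonoidalCategory CartesianMonoidalCategory MonObj GrpObj AlgebraicGeometry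
open scoped TensorProduct

noncomputable section

namespace Groth.Agent.MultTori56

variable {A : Type u} [CommRing A] [IsDomain A] [IsDiscreteValuationRing A]
  (K : Type u) [Field K] [Algebra A K] [IsFractionRing A K]

theorem exists_point_decomp
    (v : IsDedekindDomain.HeightOneSpectrum A)
    (T : Over (Spec (CommRingCat.of A))) [GrpObj T] {n : ℕ}
    (hT : TwC.Locally (Spec (CommRingCat.of A)) .finiteEtale
        (fun S' g => Red.IsSplitTorusWith (Fin n → ℤ) (Red.bc g T)))
    (x : APt T (v.adicCompletion K)) :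
    ∃ (a : APt T (v.adicCompletionIntegers K)) (b : APt T K),
      x = (specOver (iotaInt A K v) ≫ a) *
        (specOver (IsScalarTower.toAlgHom A K (v.adicCompletion K)) ≫ b) := by
  classical
  haveI : IsAffineHom T.hom :=
    RedPts82.isTorus_isAffineHom (Hopf35.TorDom.isTorus_of_isotrivial T hT)
  haveI : IsAffine T.left := isAffine_of_isAffineHom T.hom
  obtain ⟨S', f, hfin, het, hsurj, hloc⟩ := hT
  haveI := hfin; haveI := het; haveI := hsurj
  obtain ⟨s', -⟩ := f.surjective (IsLocalRing.closedPoint A)
  obtain ⟨U, hsU, hUc, ⟨e₀⟩⟩ := hloc s'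
  obtain ⟨B, _, _, t₁, _, _, _, _, ht₁⟩ := exists_etale_of_clopen f U hUc s' hsU
  obtain ⟨M, _, _, _, _, _, _, D, φB, _, _, hstab, hden⟩ := exists_galois_cover A K B
  let e : Red.bc (U.ι ≫ f) T ≅ Red.DS (U : Scheme.{u}) (Fin n → ℤ) := (Grp.forget _).mapIso e₀
  haveI : IsMonHom e.hom := e₀.hom.hom.isMonHom_hom
  let t₀ : Spec (CommRingCat.of D) ⟶ (U : Scheme.{u}) :=
    Spec.map (CommRingCat.ofHom φB.toRingHom) ≫ t₁
  have ht₀ : t₀ ≫ U.ι ≫ f = Spec.map (CommRingCat.ofHom (algebraMap A D)) := by
    rw [Category.assoc, ht₁, ← Spec.map_comp, ← CommRingCat.ofHom_comp]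
    exact congrArg (fun h => Spec.map (CommRingCat.ofHom h)) φB.comp_algebraMap
  -- the algebra `D`
  have hAM : Function.Injective (algebraMap A M) := by
    rw [IsScalarTower.algebraMap_eq A K M]
    exact (algebraMap K M).injective.comp (IsFractionRing.injective A K)
  have hAD : Function.Injective (algebraMap A D) := fun a b h => hAM (congrArg Subtype.val h)
  haveI : FaithfulSMul A D := (faithfulSMul_iff_algebraMap_injective A D).2 hAD
  haveI : Module.Free A D := Module.free_of_finite_type_torsion_free'
  let rst : (M ≃ₐ[K] M) → (D →ₐ[A] D) := fun τ =>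
    ((τ.toAlgHom.restrictScalars A).comp D.val).codRestrict D fun d => hstab τ d d.2
  let act : (M ≃ₐ[K] M) →* (D ≃ₐ[A] D) :=
    { toFun := fun τ => AlgEquiv.ofAlgHom (rst τ) (rst τ⁻¹)
        (AlgHom.ext fun d => Subtype.ext (show τ (τ⁻¹ d.1) = d.1 from τ.apply_symm_apply d.1))
        (AlgHom.ext fun d => Subtype.ext (show τ⁻¹ (τ d.1) = d.1 from τ.symm_apply_apply d.1))
      map_one' := AlgEquiv.ext fun d => Subtype.ext rfl
      map_mul' := fun τ τ' => AlgEquiv.ext fun d => Subtype.ext rfl }
  have hinj : Function.Injective act := by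
    intro τ τ' h
    refine AlgEquiv.ext fun m => ?_
    obtain ⟨a, ha, ham⟩ := hden m
    have h2 : τ (algebraMap A M a * m) = τ' (algebraMap A M a * m) :=
      congrArg Subtype.val (DFunLike.congr_fun h (⟨algebraMap A M a * m, ham⟩ : D))
    rw [map_mul, map_mul, IsScalarTower.algebraMap_apply A K M, AlgEquiv.commutes, AlgEquiv.commutes]
      at h2
    refine mul_left_cancel₀ ?_ h2
    rw [← IsScalarTower.algebraMap_apply A K M]
    exact (map_ne_zero_iff _ hAM).2 ha
  have hfix : ∀ d : D, (∀ τ, act τ d = d) → d ∈ Set.range (algebraMap A D) := by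
    intro d hd
    obtain ⟨k, hk⟩ := (IsGalois.mem_range_algebraMap_iff_fixed (F := K) (d : M)).2
      fun τ => congrArg Subtype.val (hd τ)
    have hint : IsIntegral A k := by
      rw [← isIntegral_algHom_iff (IsScalarTower.toAlgHom A K M) (algebraMap K M).injective]
      rw [IsScalarTower.coe_toAlgHom', hk]
      exact (Algebra.IsIntegral.isIntegral (R := A) d).map D.val
    obtain ⟨a, rfl⟩ := IsIntegrallyClosed.isIntegral_iff.1 hint
    exact ⟨a, Subtype.ext ((IsScalarTower.algebraMap_apply A K M a).trans hk)⟩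
  -- the completion
  obtain ⟨p, hp⟩ := IsDiscreteValuationRing.exists_irreducible A
  have hp0 : p ≠ 0 := hp.ne_zero
  have hpm : IsLocalRing.maximalIdeal A = Ideal.span {p} :=
    (IsDiscreteValuationRing.irreducible_iff_uniformizer p).1 hp
  let O := v.adicCompletionIntegers K
  let Kh := v.adicCompletion K
  let io : O →ₐ[A] Kh := iotaInt A K v
  let iK : K →ₐ[A] Kh := IsScalarTower.toAlgHom A K Kh
  have hC : IsCompletionData p io := isCompletionData K v p hpm hp0
  haveI : Finite (MaximalSpectrum D) := finite_maximalSpectrum hpm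
  letI : Fintype (MaximalSpectrum D) := Fintype.ofFinite _
  haveI : IsLocalization (Algebra.algebraMapSubmonoid D (nonZeroDivisors A)) M := by
    refine ⟨fun y => ?_, fun m => ?_, fun {d d'} h => ⟨1, by rw [Subtype.ext h]⟩⟩
    · obtain ⟨a, ha, hay⟩ := y.2
      refine (IsUnit.mk0 _ ?_)
      rw [← hay]
      exact (map_ne_zero_iff _ hAM).2 (nonZeroDivisors.ne_zero ha)
    · obtain ⟨a, ha, ham⟩ := hden m
      refine ⟨(⟨_, ham⟩, ⟨algebraMap A D a, a, mem_nonZeroDivisors_of_ne_zero ha, rfl⟩), ?_⟩
      exact mul_comm _ _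
  let j : D →ₐ[A] Kh ⊗[A] D := Algebra.TensorProduct.includeRight
  let iD : Kh →ₐ[A] Kh ⊗[A] D := Algebra.TensorProduct.includeLeft
  have hu : ∀ y : Algebra.algebraMapSubmonoid D (nonZeroDivisors A), IsUnit (j y) := by
    rintro ⟨_, a, ha, rfl⟩
    show IsUnit (j (algebraMap A D a))
    rw [j.commutes, ← iD.commutes, IsScalarTower.algebraMap_apply A K Kh]
    exact ((IsFractionRing.to_map_ne_zero_of_mem_nonZeroDivisors ha |>.isUnit).map _).map iD
  let r : M →ₐ[A] Kh ⊗[A] D :=
    { (IsLocalization.lift (S := M) (g := j.toRingHom) hu) with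
      commutes' := fun a => by
        show IsLocalization.lift (S := M) (g := j.toRingHom) hu (algebraMap A M a) = _
        rw [IsScalarTower.algebraMap_apply A D M, IsLocalization.lift_eq]
        exact j.commutes a }
  have hr : r.comp D.val = j := AlgHom.ext fun d => IsLocalization.lift_eq (S := M) (g := j.toRingHom) hu d
  have hrK : r.comp (IsScalarTower.toAlgHom A K M) = iD.comp iK :=
    IsLocalization.algHom_ext (nonZeroDivisors A) (by ext)
  -- characters
  choose s hs using fun τ : M ≃ₐ[K] M => exists_twist e t₀ ht₀ (act τ)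
  let x' : APt T (Kh ⊗[A] D) := specOver iD ≫ x
  let ξ := chiHom e t₀ ht₀ j x'
  have hξ : ∀ τ m, actK Kh act τ (ξ m : Kh ⊗[A] D) =
      (ξ (Multiplicative.ofAdd (s τ m.toAdd)) : Kh ⊗[A] D) := by
    intro τ m
    have h1 := chi_natural e t₀ ht₀ (actK Kh act τ) j x' m.toAdd
    rw [show (actK Kh act τ).comp j = j.comp (act τ).toAlgHom from AlgHom.ext fun d => by
        simp [actK, j], hs,
      show specOver (actK Kh act τ) ≫ x' = x' by
        rw [← Category.assoc, specOver_comp]
        congr 2
        exact AlgHom.ext fun c => by simp [actK, iD]] at h1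
    exact h1.symm
  obtain ⟨β, hβ, hβu⟩ := exists_equivariant_lift (L := M) act D.val Subtype.val_injective r
    (fun d => DFunLike.congr_fun hr d) (fun τ => τ.toAlgHom.restrictScalars A) (fun τ d => rfl)
    hC hpm hp0 hinj hfix ξ (fun τ m => Multiplicative.ofAdd (s τ m.toAdd)) hξ
  -- the rational point
  obtain ⟨y, hy⟩ := chi_surjective e t₀ ht₀ D.val β
  have hyfix : ∀ τ : M ≃ₐ[K] M, specOver (τ.toAlgHom.restrictScalars A) ≫ y = y := by
    intro τ
    refine chi_injective e t₀ ht₀ ((τ.toAlgHom.restrictScalars A).comp D.val) fun m => ?_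
    rw [chi_natural, hy, show (τ.toAlgHom.restrictScalars A).comp D.val = D.val.comp (act τ).toAlgHom
      from AlgHom.ext fun d => rfl, hs, hy]
    exact hβ τ (Multiplicative.ofAdd m)
  obtain ⟨b, hb⟩ := exists_descend (IsScalarTower.toAlgHom A K M) (algebraMap K M).injective y
    fun z => (IsGalois.mem_range_algebraMap_iff_fixed (F := K) (ptRing y z)).2 fun τ => by
      conv_rhs => rw [← hyfix τ]
      rw [ptRing_comp]
      rfl
  -- the integral point
  have hιinj : Function.Injective (iota D io) := iota_injective hC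
  choose w hw using fun m => hβu m
  let wHom : Multiplicative (Fin n → ℤ) →* (O ⊗[A] D)ˣ :=
    MonoidHom.mk' w fun m m' => Units.map_injective (f := (iota D io).toRingHom.toMonoidHom) hιinj (by
      rw [map_mul, hw, hw, hw, map_mul, map_mul, map_mul, _root_.mul_inv, _root_.mul_mul_mul_comm])
  obtain ⟨z, hz⟩ := chi_surjective e t₀ ht₀ (incl D O) wHom
  have hyK : specOver r ≫ y = specOver iD ≫ specOver iK ≫ b := by
    rw [← hb, ← Category.assoc, specOver_comp, hrK, ← Category.assoc, specOver_comp]
  have hzy : (specOver (iota D io) ≫ z) * (specOver r ≫ y) = x' := by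
    refine chi_injective e t₀ ht₀ j fun m => ?_
    rw [chi_mul]
    have h1 : chi e t₀ ht₀ j (specOver (iota D io) ≫ z) m =
        iota D io (wHom (Multiplicative.ofAdd m)) := by
      rw [← hz, ← chi_natural]
      congr 1
    have h2 : chi e t₀ ht₀ j (specOver r ≫ y) m = r (β (Multiplicative.ofAdd m)) := by
      rw [← hy, ← chi_natural, hr]
    rw [h1, h2]
    have h3 := hw (Multiplicative.ofAdd m)
    rw [eq_mul_inv_iff_mul_eq] at h3
    exact congrArg Units.val h3
  let q : APt T Kh := x * (specOver iK ≫ b)⁻¹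
  have hq : specOver (iota D io) ≫ z = specOver iD ≫ q := by
    refine mul_right_cancel (b := specOver r ≫ y) (hzy.trans ?_)
    rw [hyK, ← MonObj.comp_mul, inv_mul_cancel_right]
  -- descent to the integers
  obtain ⟨i, hi⟩ : ∃ i, IsUnit ((Module.Free.chooseBasis A D).repr 1 i) := by
    by_contra! hno
    obtain ⟨I, hI⟩ := Ideal.exists_maximal D
    apply hI.ne_top
    rw [Ideal.eq_top_iff_one]
    nth_rw 1 [← (Module.Free.chooseBasis A D).sum_repr 1]
    refine I.sum_mem fun k _ => ?_
    have hk : (Module.Free.chooseBasis A D).repr 1 k ∈ IsLocalRing.maximalIdeal A := hno k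
    rw [hpm] at hk
    obtain ⟨c, hc⟩ := Ideal.mem_span_singleton.1 hk
    rw [hc, Algebra.smul_def, map_mul, _root_.mul_assoc]
    exact I.mul_mem_right _ (map_mem_maximal hpm ⟨I, hI⟩)
  obtain ⟨c, hc⟩ := hi.exists_left_inv
  let l : D →ₗ[A] A := c • (Module.Free.chooseBasis A D).coord i
  have hl : l 1 = 1 := hc
  let iO : O →ₐ[A] O ⊗[A] D := Algebra.TensorProduct.includeLeft
  have hiD : Function.Injective iD := by
    intro c₁ c₂ h
    have := congrArg (TensorProduct.lid A Kh ∘ (TensorProduct.comm A Kh A) ∘
      TensorProduct.map LinearMap.id l) h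
    simpa [iD, hl] using this
  have hiO : Function.Injective iO := by
    intro c₁ c₂ h
    have := congrArg (TensorProduct.lid A O ∘ (TensorProduct.comm A O A) ∘
      TensorProduct.map LinearMap.id l) h
    simpa [iO, hl] using this
  obtain ⟨a, ha⟩ := exists_descend iO hiO z fun g => by
    let lO : O ⊗[A] D →ₗ[A] O := (TensorProduct.lid A O).toLinearMap ∘ₗ
      (TensorProduct.comm A O A).toLinearMap ∘ₗ TensorProduct.map LinearMap.id l
    let lK : Kh ⊗[A] D →ₗ[A] Kh := (TensorProduct.lid A Kh).toLinearMap ∘ₗ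
      (TensorProduct.comm A Kh A).toLinearMap ∘ₗ TensorProduct.map LinearMap.id l
    have hcomm : ∀ t, lK (iota D io t) = io (lO t) := by
      intro t
      induction t using TensorProduct.induction_on with
      | zero => simp
      | tmul o d => simp [lK, lO, iota]
      | add t t' h h' => rw [map_add, map_add, map_add, map_add, h, h']
    refine ⟨lO (ptRing z g), hιinj ?_⟩
    have h1 : iota D io (ptRing z g) = iD (ptRing q g) := by
      have := congrArg (fun t => ptRing t g) hq
      rw [ptRing_comp, ptRing_comp] at this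
      exact this
    have h2 : io (lO (ptRing z g)) = ptRing q g := by
      rw [← hcomm, h1]
      simp [lK, iD, hl]
    rw [h1, ← h2]
    simp [iota, iO, iD]
  refine ⟨a, b, specOver_injective iD hiD ?_⟩
  show x' = specOver iD ≫ (_ * _)
  rw [MonObj.comp_mul, ← hyK, ← Category.assoc, specOver_comp]
  rw [show iD.comp (iotaInt A K v) = (iota D io).comp iO from AlgHom.ext fun o => by
    simp [iota, iO, iD, io], ← specOver_comp, Category.assoc, ha, hzy]

end Groth.Agent.MultTori56
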