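/-
helper56: lifting of residue-field points along discrete valuation rings gives a retraction
through an open subset of affine space (birational model by a hypersurface).
-/
import Mathlib
import Groth.Agent.FrobTwist31.Geo

set_option autoImplicit false
set_option maxHeartbeats 800000
universe u

open scoped TensorProduct

noncomputable section

namespace Groth.Agent.MultTori56

variable {k : Type u} [Field k] {A : Type u} [CommRing A] [IsDomain A] [Algebra k A]

variable (k A) in
lemma isGeometricallyReduced_fractionRing (hgeo : IsReduced (AlgebraicClosure k ⊗[k] A)) :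
    Algebra.IsGeometricallyReduced k (FractionRing A) := by
  rw [Algebra.isGeometricallyReduced_field_iff]
  let K := FractionRing A
  let ι : A →ₐ[k] K := IsScalarTower.toAlgHom k A K
  let φ : AlgebraicClosure k ⊗[k] A →ₐ[k] AlgebraicClosure k ⊗[k] K :=
    Algebra.TensorProduct.map (AlgHom.id k _) ι
  have hφ : Function.Injective φ :=
    Module.Flat.lTensor_preserves_injective_linearMap ι.toLinearMap
      (IsFractionRing.injective A K)
  have key : ∀ z : AlgebraicClosure k ⊗[k] K, ∃ a : A, a ≠ 0 ∧
      ((1 : AlgebraicClosure k) ⊗ₜ[k] ι a) * z ∈ Set.range φ := by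
    intro z
    induction z using TensorProduct.induction_on with
    | zero => exact ⟨1, one_ne_zero, 0, by simp⟩
    | tmul x y =>
      obtain ⟨a, b, hb, rfl⟩ := IsFractionRing.div_surjective (A := A) y
      refine ⟨b, nonZeroDivisors.ne_zero hb, x ⊗ₜ[k] a, ?_⟩
      have hb0 : algebraMap A K b ≠ 0 :=
        IsFractionRing.to_map_ne_zero_of_mem_nonZeroDivisors hb
      simp only [φ, ι, Algebra.TensorProduct.map_tmul, AlgHom.id_apply,
        IsScalarTower.coe_toAlgHom', Algebra.TensorProduct.tmul_mul_tmul, one_mul]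
      rw [mul_div_cancel₀ _ hb0]
    | add z w hz hw =>
      obtain ⟨a, ha, za, hza⟩ := hz
      obtain ⟨b, hb, wb, hwb⟩ := hw
      refine ⟨a * b, mul_ne_zero ha hb,
        (1 ⊗ₜ[k] b) * za + (1 ⊗ₜ[k] a) * wb, ?_⟩
      rw [map_add, map_mul, map_mul, hza, hwb, map_mul,
        ← one_mul (1 : AlgebraicClosure k), ← Algebra.TensorProduct.tmul_mul_tmul]
      simp only [φ, Algebra.TensorProduct.map_tmul, AlgHom.id_apply, one_mul]
      ring
  refine ⟨fun z hz => ?_⟩
  obtain ⟨a, ha, w, hw⟩ := key z
  have hw' : IsNilpotent w := by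
    rw [← IsNilpotent.map_iff hφ, hw]
    exact (Commute.all _ _).isNilpotent_mul_left hz
  rw [hw'.eq_zero, map_zero] at hw
  have hu : IsUnit ((1 : AlgebraicClosure k) ⊗ₜ[k] ι a) := by
    have : IsUnit (ι a) := (isUnit_iff_ne_zero).2 fun h0 => ha
      (IsFractionRing.injective A K (h0.trans (map_zero _).symm))
    exact this.map (Algebra.TensorProduct.includeRight : K →ₐ[k] AlgebraicClosure k ⊗[k] K)
  exact hu.mul_right_eq_zero.1 hw.symm

/-- A geometrically reduced finitely generated field extension is the function field of a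
hypersurface in affine space. -/
theorem exists_hypersurface (k K : Type u) [Field k] [Field K] [Algebra k K]
    [Algebra.EssFiniteType k K] [Algebra.IsGeometricallyReduced k K] :
    ∃ (n : ℕ) (ev : MvPolynomial (Fin n) k →ₐ[k] K) (h : MvPolynomial (Fin n) k), Prime h ∧
      RingHom.ker ev = Ideal.span {h} ∧ ∀ z : K, ∃ p q, ev q ≠ 0 ∧ z = ev p / ev q := by
  classical
  obtain ⟨s, hs, hsep⟩ : ∃ s : Finset K, IsTranscendenceBasis k ((↑) : s → K) ∧
      Algebra.IsSeparable (IntermediateField.adjoin k (s : Set K)) K := by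
    rcases CharP.exists' k with h | ⟨p, hp, hpk⟩
    · exact exists_isTranscendenceBasis_and_isSeparable_of_perfectField k K
    · have : ExpChar k p := .prime hp.out
      exact exists_isTranscendenceBasis_and_isSeparable_of_linearIndepOn_pow_of_essFiniteType
        p hp.out (FrobTwist31.linearIndepOn_pow p)
  obtain ⟨d, hd⟩ : ∃ d, s.card = d := ⟨_, rfl⟩
  let e : Fin d ≃ s := (s.equivFinOfCardEq hd).symm
  let t : Fin d → K := fun i => (e i : K)
  have ht : IsTranscendenceBasis k t := hs.comp_equiv e
  have hrange : Set.range t = (s : Set K) := by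
    ext x
    exact ⟨fun ⟨i, hi⟩ => hi ▸ (e i).2, fun hx => ⟨e.symm ⟨x, hx⟩, by simp [t]⟩⟩
  let E := IntermediateField.adjoin k (Set.range t)
  haveI : Algebra.IsSeparable E K := by
    show Algebra.IsSeparable (IntermediateField.adjoin k (Set.range t)) K
    rw [hrange]; exact hsep
  haveI : Algebra.EssFiniteType E K := Algebra.EssFiniteType.of_comp k E K
  haveI : FiniteDimensional E K := Algebra.finite_of_essFiniteType_of_isAlgebraic
  obtain ⟨θ, hθ⟩ := Field.exists_primitive_element E K
  let R := MvPolynomial (Fin d) k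
  let ψ : R →+* E :=
    (ht.1.aevalEquivField.toRingEquiv.toRingHom).comp (algebraMap R (FractionRing R))
  letI : Algebra R E := ψ.toAlgebra
  letI : Algebra R K := ((algebraMap E K).comp ψ).toAlgebra
  haveI : IsScalarTower R E K := IsScalarTower.of_algebraMap_eq fun _ => rfl
  haveI : IsScalarTower k R E := IsScalarTower.of_algebraMap_eq fun c => by
    show algebraMap k E c = ht.1.aevalEquivField (algebraMap R (FractionRing R) (algebraMap k R c))
    rw [← IsScalarTower.algebraMap_apply, AlgEquiv.commutes]
  haveI : IsScalarTower k R K := IsScalarTower.of_algebraMap_eq fun c => by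
    show algebraMap k K c = algebraMap E K (algebraMap R E (algebraMap k R c))
    rw [← IsScalarTower.algebraMap_apply k R E, ← IsScalarTower.algebraMap_apply]
  haveI hloc : IsFractionRing R E := by
    let e' : FractionRing R ≃ₐ[R] E :=
      AlgEquiv.ofRingEquiv (f := ht.1.aevalEquivField.toRingEquiv) fun _ => rfl
    exact IsLocalization.isLocalization_of_algEquiv (nonZeroDivisors R) e'
  let φ : Polynomial R →ₐ[k] K := (Polynomial.aeval θ).restrictScalars k
  let ev : MvPolynomial (Fin (d + 1)) k →ₐ[k] K := φ.comp (MvPolynomial.finSuccEquiv k d).toAlgHom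
  have hclear : ∀ f : Polynomial E, ∃ (g : Polynomial R) (b : R), b ≠ 0 ∧
      g.map (algebraMap R E) = algebraMap R E b • f ∧ φ g = algebraMap R K b * Polynomial.aeval θ f := by
    intro f
    obtain ⟨b, hb⟩ := IsLocalization.integerNormalization_map_to_map (nonZeroDivisors R) f
    refine ⟨IsLocalization.integerNormalization (nonZeroDivisors R) f, (b : R),
      nonZeroDivisors.ne_zero b.2, ?_, ?_⟩
    · rw [hb, algebraMap_smul]
    · have h1 : Polynomial.aeval θ (IsLocalization.integerNormalization (nonZeroDivisors R) f) =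
          Polynomial.aeval θ ((IsLocalization.integerNormalization (nonZeroDivisors R) f).map (algebraMap R E)) :=
        (Polynomial.aeval_map_algebraMap E θ _).symm
      show Polynomial.aeval θ (IsLocalization.integerNormalization (nonZeroDivisors R) f) = _
      rw [h1, hb, ← algebraMap_smul E (b : R) f, map_smul, Algebra.smul_def,
        ← IsScalarTower.algebraMap_apply R E K]
  have hinj : Function.Injective (algebraMap R K) :=
    (algebraMap E K).injective.comp (IsFractionRing.injective R E)
  have hθint : IsIntegral E θ := Algebra.IsIntegral.isIntegral θ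
  obtain ⟨h, hhker, hhprime⟩ : ∃ h ∈ RingHom.ker φ, Prime h := by
    refine Ideal.IsPrime.exists_mem_prime_of_ne_bot (RingHom.ker_isPrime φ) ?_
    obtain ⟨g, b, hb, hgf, hgφ⟩ := hclear (minpoly E θ)
    rw [Submodule.ne_bot_iff]
    refine ⟨g, ?_, ?_⟩
    · rw [RingHom.mem_ker, hgφ, minpoly.aeval, mul_zero]
    · intro h0
      rw [h0, Polynomial.map_zero, eq_comm, smul_eq_zero] at hgf
      exact hgf.elim (fun h => hb (IsFractionRing.injective R E (h.trans (map_zero _).symm)))
        (minpoly.ne_zero hθint)
  have hdeg : h.natDegree ≠ 0 := by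
    intro h0
    obtain ⟨r, hr⟩ := Polynomial.natDegree_eq_zero.1 h0
    have h1 : φ (Polynomial.C r) = 0 := by rw [hr]; exact hhker
    simp only [φ, AlgHom.restrictScalars_apply, Polynomial.aeval_C] at h1
    rw [← map_zero (algebraMap R K)] at h1
    exact hhprime.ne_zero (by rw [← hr, hinj h1, map_zero])
  have hprim : h.IsPrimitive := hhprime.irreducible.isPrimitive hdeg
  have hirr : Irreducible (h.map (algebraMap R E)) :=
    (hprim.irreducible_iff_irreducible_map_fraction_map (K := E)).1 hhprime.irreducible
  have hker : RingHom.ker φ = Ideal.span {h} := by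
    refine le_antisymm (fun g hg => ?_) ((Ideal.span_singleton_le_iff_mem _).2 hhker)
    rw [Ideal.mem_span_singleton]
    refine hprim.dvd_of_fraction_map_dvd_fraction_map (K := E) ?_
    have hzero : ∀ f : Polynomial R, f ∈ RingHom.ker φ → Polynomial.aeval θ (f.map (algebraMap R E)) = 0 := by
      intro f hf
      rw [Polynomial.aeval_map_algebraMap]
      exact hf
    have h1 : Associated (minpoly E θ) (h.map (algebraMap R E)) :=
      (minpoly.irreducible hθint).associated_of_dvd hirr (minpoly.dvd E θ (hzero h hhker))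
    exact h1.symm.dvd.trans (minpoly.dvd E θ (hzero g hg))
  refine ⟨d + 1, ev, (MvPolynomial.finSuccEquiv k d).symm h, ?_, ?_, fun z => ?_⟩
  · exact (MulEquiv.prime_iff (MvPolynomial.finSuccEquiv k d).symm.toMulEquiv).2 hhprime
  · ext x
    rw [RingHom.mem_ker, Ideal.mem_span_singleton]
    show φ (MvPolynomial.finSuccEquiv k d x) = 0 ↔ _
    rw [← RingHom.mem_ker, hker, Ideal.mem_span_singleton,
      ← map_dvd_iff (MvPolynomial.finSuccEquiv k d).symm.toMulEquiv]
    simp
  · have hz : z ∈ IntermediateField.adjoin E ({θ} : Set K) := by rw [hθ]; trivial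
    rw [← IntermediateField.mem_toSubalgebra,
      IntermediateField.adjoin_simple_toSubalgebra_of_isAlgebraic hθint.isAlgebraic,
      Algebra.adjoin_singleton_eq_range_aeval] at hz
    obtain ⟨f, rfl⟩ := hz
    obtain ⟨g, b, hb, -, hgφ⟩ := hclear f
    have hb' : algebraMap R K b ≠ 0 := fun h0 => hb (hinj (h0.trans (map_zero _).symm))
    refine ⟨(MvPolynomial.finSuccEquiv k d).symm g,
      (MvPolynomial.finSuccEquiv k d).symm (Polynomial.C b), ?_, ?_⟩
    all_goals have hev : ∀ x, ev ((MvPolynomial.finSuccEquiv k d).symm x) = φ x :=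
      fun x => congrArg φ ((MvPolynomial.finSuccEquiv k d).apply_symm_apply x)
    · rw [hev]
      simpa [φ] using hb'
    · rw [hev, hev, hgφ]
      simp only [φ, AlgHom.restrictScalars_apply, Polynomial.aeval_C]
      rw [mul_div_cancel_left₀ _ hb']
      rfl

/-- Valuative lifting of points gives a retraction through a basic open of affine space. -/
theorem exists_retraction [Algebra.FiniteType k A] (hgeo : IsReduced (AlgebraicClosure k ⊗[k] A))
    (hlift : ∀ (R : Type u) [CommRing R] [IsDomain R] [IsDiscreteValuationRing R] [Algebra k R]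
      (v : A →ₐ[k] IsLocalRing.ResidueField R), ∃ s : A →ₐ[k] R, ∀ x, IsLocalRing.residue R (s x) = v x) :
    ∃ (n : ℕ) (g : A) (_ : g ≠ 0) (c : MvPolynomial (Fin n) k)
      (α : Localization.Away c →ₐ[k] Localization.Away g)
      (β : Localization.Away g →ₐ[k] Localization.Away c), α.comp β = AlgHom.id k _ := by
  classical
  let K := FractionRing A
  haveI := isGeometricallyReduced_fractionRing k A hgeo
  haveI : Algebra.EssFiniteType A K := Algebra.EssFiniteType.of_isLocalization _ (nonZeroDivisors A)
  haveI : Algebra.EssFiniteType k K := Algebra.EssFiniteType.comp k A K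
  obtain ⟨n, ev, h, hh, hker, hsurj⟩ := exists_hypersurface k K
  let P := MvPolynomial (Fin n) k
  haveI hPp : (Ideal.span {h}).IsPrime := (Ideal.span_singleton_prime hh.ne_zero).2 hh
  let R := Localization.AtPrime (Ideal.span {h})
  haveI : IsDomain R := IsLocalization.isDomain_localization
    (Ideal.primeCompl_le_nonZeroDivisors (Ideal.span {h}))
  haveI : IsNoetherianRing R := IsLocalization.isNoetherianRing (Ideal.span {h}).primeCompl R inferInstance
  have hmax : IsLocalRing.maximalIdeal R = Ideal.span {algebraMap P R h} := by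
    rw [← Localization.AtPrime.map_eq_maximalIdeal, Ideal.map_span, Set.image_singleton]
  have hPR : Function.Injective (algebraMap P R) :=
    IsLocalization.injective R (Ideal.primeCompl_le_nonZeroDivisors (Ideal.span {h}))
  have hnf : ¬ IsField R := by
    intro hf
    have h1 := IsLocalRing.isField_iff_maximalIdeal_eq.1 hf
    rw [hmax, Ideal.span_singleton_eq_bot] at h1
    exact hh.ne_zero (hPR (h1.trans (map_zero _).symm))
  haveI : IsDiscreteValuationRing R :=
    ((IsDiscreteValuationRing.TFAE R hnf).out 0 4).2 (by rw [hmax]; exact ⟨_, rfl⟩)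
  have hunit : ∀ y : (Ideal.span {h}).primeCompl, IsUnit (ev y) := fun y => isUnit_iff_ne_zero.2
    fun h0 => y.2 (hker.le (h0 : (y : MvPolynomial (Fin n) k) ∈ RingHom.ker ev))
  let ρ : R →ₐ[k] K := IsLocalization.liftAlgHom (f := ev) hunit
  have hρ : ∀ p, ρ (algebraMap P R p) = ev p := fun p => IsLocalization.lift_eq _ p
  have hρs : Function.Surjective ρ := fun z => by
    obtain ⟨p, q, hq, rfl⟩ := hsurj z
    have hq' : q ∈ (Ideal.span {h}).primeCompl := fun hm => hq (by rwa [← hker] at hm)
    refine ⟨IsLocalization.mk' R p ⟨q, hq'⟩, ?_⟩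
    rw [eq_div_iff hq, ← hρ q, ← map_mul, IsLocalization.mk'_spec, hρ]
  have hρker : RingHom.ker ρ.toRingHom = IsLocalRing.maximalIdeal R :=
    haveI := RingHom.ker_isMaximal_of_surjective ρ.toRingHom hρs
    IsLocalRing.eq_maximalIdeal this
  let ρb : IsLocalRing.ResidueField R →ₐ[k] K :=
    Ideal.Quotient.liftₐ (IsLocalRing.maximalIdeal R) ρ fun x hx => by
      rw [← hρker] at hx; exact hx
  have hρb : Function.Bijective ρb := ⟨(ρb : IsLocalRing.ResidueField R →+* K).injective,
    fun z => by obtain ⟨r, rfl⟩ := hρs z; exact ⟨IsLocalRing.residue R r, rfl⟩⟩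
  let eK := AlgEquiv.ofBijective ρb hρb
  obtain ⟨s, hs⟩ := hlift R (eK.symm.toAlgHom.comp (IsScalarTower.toAlgHom k A K))
  have hs' : ∀ x, ρ (s x) = algebraMap A K x := fun x => by
    have h1 := congrArg eK (hs x)
    rw [show eK (IsLocalRing.residue R (s x)) = ρ (s x) from rfl] at h1
    rw [h1]
    exact eK.apply_symm_apply _
  -- clear the denominators of `s`
  obtain ⟨F, hF⟩ : ∃ F : Finset A, Algebra.adjoin k (F : Set A) = ⊤ := Algebra.FiniteType.out
  choose pnum pden hpq using fun a : A =>
    IsLocalization.exists_mk'_eq (Ideal.span {h}).primeCompl (s a)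
  let c₀ : P := ∏ a ∈ F, (pden a : P)
  have hc₀ : c₀ ∈ (Ideal.span {h}).primeCompl := Submonoid.prod_mem _ fun a _ => (pden a).2
  let j : Localization.Away c₀ →ₐ[k] R :=
    IsLocalization.liftAlgHom (M := Submonoid.powers c₀) (f := IsScalarTower.toAlgHom k P R) (by
      rintro ⟨_, i, rfl⟩
      exact IsLocalization.map_units R (⟨c₀ ^ i, pow_mem hc₀ i⟩ : (Ideal.span {h}).primeCompl))
  have hj : ∀ p, j (algebraMap P _ p) = algebraMap P R p := fun p => IsLocalization.lift_eq _ p
  have hc₀ne : c₀ ≠ 0 := fun h0 => hc₀ (by rw [h0]; exact zero_mem _)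
  have hjinj : Function.Injective j :=
    (IsLocalization.lift_injective_iff _).2 fun x y => by
      constructor
      · intro hxy
        exact congrArg _ ((IsLocalization.injective (Localization.Away c₀)
          (powers_le_nonZeroDivisors_of_noZeroDivisors hc₀ne)) hxy)
      · intro hxy
        exact congrArg _ (hPR hxy)
  have hsj : ∀ x, ∃ y, j y = s x := by
    intro x
    have hx : x ∈ Algebra.adjoin k (F : Set A) := by rw [hF]; trivial
    have hle : Algebra.adjoin k (F : Set A) ≤ j.range.comap s := by
      rw [Algebra.adjoin_le_iff]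
      intro a ha
      refine ⟨IsLocalization.mk' (Localization.Away c₀) (pnum a * ∏ b ∈ F.erase a, (pden b : P))
        ⟨c₀, Submonoid.mem_powers c₀⟩, ?_⟩
      show j _ = s a
      have hu : IsUnit (algebraMap P R c₀) := IsLocalization.map_units R (⟨c₀, hc₀⟩ : (Ideal.span {h}).primeCompl)
      rw [← hu.mul_left_inj, ← hj c₀, ← map_mul, IsLocalization.mk'_spec, hj, hj,
        show c₀ = (pden a : P) * ∏ b ∈ F.erase a, (pden b : P) from (Finset.mul_prod_erase F _ ha).symm,
        map_mul, map_mul, ← mul_assoc, ← hpq a, IsLocalization.mk'_spec]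
    exact hle hx
  let eJ := AlgEquiv.ofInjective j hjinj
  let β₀ : A →ₐ[k] Localization.Away c₀ :=
    eJ.symm.toAlgHom.comp (s.codRestrict j.range fun x => hsj x)
  have hβ₀ : ∀ x, j (β₀ x) = s x := fun x =>
    congrArg Subtype.val (eJ.apply_symm_apply (s.codRestrict j.range (fun x => hsj x) x))
  -- denominators on the torus side
  choose anum aden haden hav using fun i : Fin n => IsFractionRing.div_surjective (A := A) (ev (MvPolynomial.X i))
  have hevc : ev c₀ ≠ 0 := fun h0 => hc₀ (by rw [← hker]; exact h0)
  obtain ⟨cnum, cden, hcden, hcv⟩ := IsFractionRing.div_surjective (A := A) (ev c₀)⁻¹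
  let g : A := cden * ∏ i, aden i
  have hg : g ≠ 0 := mul_ne_zero (nonZeroDivisors.ne_zero hcden)
    (Finset.prod_ne_zero_iff.2 fun i _ => nonZeroDivisors.ne_zero (haden i))
  let jg : Localization.Away g →ₐ[k] K :=
    IsLocalization.liftAlgHom (M := Submonoid.powers g) (f := IsScalarTower.toAlgHom k A K) (by
      rintro ⟨_, i, rfl⟩
      exact isUnit_iff_ne_zero.2 fun h0 => pow_ne_zero i hg
        (IsFractionRing.injective A K (h0.trans (map_zero _).symm)))
  have hjg : ∀ x, jg (algebraMap A _ x) = algebraMap A K x := fun p => IsLocalization.lift_eq _ p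
  have hjginj : Function.Injective jg :=
    (IsLocalization.lift_injective_iff _).2 fun x y => by
      constructor
      · intro hxy
        exact congrArg _ ((IsLocalization.injective (Localization.Away g)
          (powers_le_nonZeroDivisors_of_noZeroDivisors hg)) hxy)
      · intro hxy
        exact congrArg _ (IsFractionRing.injective A K hxy)
  have hrange : ∀ a b r : A, g = b * r → algebraMap A K a / algebraMap A K b ∈ jg.range := by
    intro a b r hgb
    refine ⟨IsLocalization.mk' (Localization.Away g) (a * r) ⟨g, Submonoid.mem_powers g⟩, ?_⟩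
    show jg _ = _
    have hgK : algebraMap A K g ≠ 0 := fun h0 => hg (IsFractionRing.injective A K (h0.trans (map_zero _).symm))
    rw [← mul_left_inj' hgK]
    conv_lhs => rw [← hjg g, ← map_mul, IsLocalization.mk'_spec, hjg, map_mul]
    rw [hgb, map_mul] at hgK ⊢
    have hbK : algebraMap A K b ≠ 0 := left_ne_zero_of_mul hgK
    rw [← mul_assoc, div_mul_cancel₀ _ hbK]
  have hevr : ∀ p : P, ev p ∈ jg.range := by
    intro p
    have hle : Algebra.adjoin k (Set.range (MvPolynomial.X : Fin n → P)) ≤ jg.range.comap ev := by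
      rw [Algebra.adjoin_le_iff]
      rintro _ ⟨i, rfl⟩
      show ev _ ∈ jg.range
      rw [← hav i]
      exact hrange _ _ (cden * ∏ b ∈ Finset.univ.erase i, aden b) (by
        rw [← mul_assoc, mul_comm (aden i), mul_assoc, Finset.mul_prod_erase _ _ (Finset.mem_univ i)])
    exact hle (MvPolynomial.adjoin_range_X (R := k) (σ := Fin n) ▸ Algebra.mem_top)
  have hcr : (ev c₀)⁻¹ ∈ jg.range := by
    rw [← hcv]
    exact hrange _ _ _ rfl
  let eG := AlgEquiv.ofInjective jg hjginj
  let α₁ : P →ₐ[k] Localization.Away g := eG.symm.toAlgHom.comp (ev.codRestrict jg.range hevr)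
  have hα₁ : ∀ p, jg (α₁ p) = ev p := fun p =>
    congrArg Subtype.val (eG.apply_symm_apply (ev.codRestrict jg.range hevr p))
  have hc₀u : IsUnit (α₁ c₀) := by
    obtain ⟨z, hz⟩ := hcr
    refine IsUnit.of_mul_eq_one z (hjginj ?_)
    rw [map_mul, map_one, hα₁, show jg z = _ from hz, mul_inv_cancel₀ hevc]
  let α₀ : Localization.Away c₀ →ₐ[k] Localization.Away g :=
    IsLocalization.liftAlgHom (M := Submonoid.powers c₀) (f := α₁) (by
      rintro ⟨_, i, rfl⟩
      rw [map_pow]
      exact hc₀u.pow i)
  have hα₀ : ∀ p, α₀ (algebraMap P _ p) = α₁ p := fun p => IsLocalization.lift_eq _ p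
  have hcomp : ∀ y, jg (α₀ y) = ρ (j y) := by
    intro y
    have : (jg.toRingHom.comp α₀.toRingHom) = ρ.toRingHom.comp j.toRingHom :=
      IsLocalization.ringHom_ext (Submonoid.powers c₀) (RingHom.ext fun p => by
        simp [hα₀, hα₁, hj, hρ])
    exact congr($this y)
  have hαβ : ∀ x, α₀ (β₀ x) = algebraMap A _ x := fun x =>
    hjginj (by rw [hcomp, hβ₀, hs', hjg])
  obtain ⟨m, num, hnum⟩ := IsLocalization.Away.surj c₀ (β₀ g)
  let c : P := c₀ * num
  have huc : IsUnit (algebraMap P (Localization.Away c) c) := IsLocalization.Away.algebraMap_isUnit c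
  rw [map_mul] at huc
  let w : Localization.Away c₀ →ₐ[k] Localization.Away c :=
    IsLocalization.liftAlgHom (M := Submonoid.powers c₀) (f := IsScalarTower.toAlgHom k P _) (by
      rintro ⟨_, i, rfl⟩
      rw [map_pow]
      exact (IsUnit.mul_iff.1 huc).1.pow i)
  have hw : ∀ p, w (algebraMap P _ p) = algebraMap P _ p := fun p => IsLocalization.lift_eq _ p
  have hwg : IsUnit (w (β₀ g)) := by
    have h1 := congrArg w hnum
    rw [map_mul, map_pow, hw, hw] at h1
    have h2 : IsUnit (algebraMap P (Localization.Away c) num) := (IsUnit.mul_iff.1 huc).2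
    rw [← h1] at h2
    exact (IsUnit.mul_iff.1 h2).1
  let β : Localization.Away g →ₐ[k] Localization.Away c :=
    IsLocalization.liftAlgHom (M := Submonoid.powers g) (f := w.comp β₀) (by
      rintro ⟨_, i, rfl⟩
      rw [map_pow]
      exact hwg.pow i)
  have hnumu : IsUnit (α₁ num) := by
    have h1 := congrArg α₀ hnum
    rw [map_mul, map_pow, hαβ, hα₀, hα₀] at h1
    rw [← h1]
    exact (IsLocalization.Away.algebraMap_isUnit g).mul (hc₀u.pow m)
  let α : Localization.Away c →ₐ[k] Localization.Away g :=
    IsLocalization.liftAlgHom (M := Submonoid.powers c) (f := α₁) (by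
      rintro ⟨_, i, rfl⟩
      rw [map_pow, map_mul]
      exact (hc₀u.mul hnumu).pow i)
  have hαw : ∀ y, α (w y) = α₀ y := by
    intro y
    have : α.toRingHom.comp w.toRingHom = α₀.toRingHom :=
      IsLocalization.ringHom_ext (Submonoid.powers c₀) (RingHom.ext fun p => by
        simp only [AlgHom.toRingHom_eq_coe, RingHom.coe_comp, RingHom.coe_coe, Function.comp_apply, hw, hα₀]
        exact IsLocalization.lift_eq _ p)
    exact congr($this y)
  refine ⟨n, g, hg, c, α, β, AlgHom.coe_ringHom_injective ?_⟩
  refine IsLocalization.ringHom_ext (Submonoid.powers g) (RingHom.ext fun x => ?_)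
  show α (β (algebraMap A _ x)) = algebraMap A _ x
  rw [show β (algebraMap A _ x) = w (β₀ x) from IsLocalization.lift_eq _ x, hαw, hαβ]

end Groth.Agent.MultTori56
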